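import Cfsg.Agent.S5016
import Cfsg.Agent.Lib.RankOne.Basic

/-!
# Transvection groups as abstract root groups
-/

set_option autoImplicit false

namespace Cfsg.Agent.Lib.Transv

open Cfsg
open scoped MatrixGroups commutatorElement

section GroupLemmas

variable {G H : Type*} [Group G] [Group H]

theorem conjBy_map (f : G →* H) (A : Subgroup G) (g : G) : (conjBy A g).map f = conjBy (A.map f) (f g) := by
  show (A.map _).map f = (A.map f).map _
  rw [Subgroup.map_map, Subgroup.map_map]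
  congr 1
  ext x
  simp

theorem pair_map {f : G →* H} (hf : Function.Injective f) {A B : Subgroup G} (h : IsRankOnePair A B) :
    IsRankOnePair (A.map f) (B.map f) := by
  have := h.nilpotent_left
  have := h.nilpotent_right
  have aux : ∀ P Q : Subgroup G, RankOneCondition P Q → RankOneCondition (P.map f) (Q.map f) := by
    rintro P Q hc _ ⟨a, ha, rfl⟩ ha1
    obtain ⟨b, hb, hb1, e⟩ := hc a ha fun h => ha1 (by rw [h, map_one])
    refine ⟨f b, ⟨b, hb, rfl⟩, fun h => hb1 (hf (by rw [h, map_one])), ?_⟩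
    rw [← map_inv, ← map_inv, ← conjBy_map, ← conjBy_map, e]
  exact ⟨fun e => h.ne (Subgroup.map_injective hf e),
    Group.nilpotent_of_mulEquiv (A.equivMapOfInjective f hf), Group.nilpotent_of_mulEquiv (B.equivMapOfInjective f hf),
    aux A B h.cond_left, aux B A h.cond_right⟩

/-- The members of a rank one pair are conjugate. -/
theorem pair_conj {A B : Subgroup G} (h : IsRankOnePair A B) : ∃ g : G, B = conjBy A g := by
  by_cases hA : A = ⊥
  · exfalso
    refine h.ne (hA.trans ?_)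
    refine ((Subgroup.eq_bot_iff_forall _).mpr fun b hb => ?_).symm
    by_contra hb1
    obtain ⟨a, ha, ha1, -⟩ := h.cond_right b hb hb1
    rw [hA, Subgroup.mem_bot] at ha
    exact ha1 ha
  obtain ⟨a, ha, ha1⟩ : ∃ a ∈ A, a ≠ 1 := by
    by_contra hno
    push Not at hno
    exact hA ((Subgroup.eq_bot_iff_forall _).mpr hno)
  obtain ⟨b, -, -, e⟩ := h.cond_left a ha ha1
  refine ⟨a * b⁻¹, ?_⟩
  rw [← Cfsg.Agent.Lib.RankOne.conjBy_conjBy, e, Cfsg.Agent.Lib.RankOne.conjBy_conjBy, mul_inv_cancel,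
    Cfsg.Agent.Lib.RankOne.conjBy_one]

/-- A connected family is contained in one conjugacy class. -/
theorem conj_of_connected {S : Set (Subgroup G)} (hc : IsConnectedFamily (FAdj S) S) {A B : Subgroup G} (hA : A ∈ S)
    (hB : B ∈ S) : ∃ g : G, B = conjBy A g := by
  induction hc A hA B hB with
  | refl => exact ⟨1, (Cfsg.Agent.Lib.RankOne.conjBy_one A).symm⟩
  | tail _ hadj ih =>
    obtain ⟨g, rfl⟩ := ih hadj.1
    obtain ⟨g', e⟩ := pair_conj hadj.2.2
    exact ⟨g' * g, by rw [e, Cfsg.Agent.Lib.RankOne.conjBy_conjBy]⟩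

end GroupLemmas

variable {F : Type*} [Field F] {V : Type*} [AddCommGroup V] [Module F V]

/-- The maps of a transvection group. -/
theorem tr_apply_apply {φ : Module.Dual F V} {v : V} (hv : φ v = 0) {g h : V ≃ₗ[F] V} {c d : F}
    (hg : ∀ x, g x = x + (c * φ x) • v) (hh : ∀ x, h x = x + (d * φ x) • v) (x : V) :
    (g * h) x = x + ((c + d) * φ x) • v := by
  show g (h x) = _
  rw [hh, hg, map_add, map_smul, hv, smul_zero, add_zero]
  module

/-- The transvection group of a functional and a vector in its kernel. -/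
def trG {φ : Module.Dual F V} {v : V} (hv : φ v = 0) : Subgroup (V ≃ₗ[F] V) where
  carrier := {g | ∃ c : F, ∀ x, g x = x + (c * φ x) • v}
  one_mem' := ⟨0, fun x => by simp⟩
  mul_mem' := by
    rintro g h ⟨c, hc⟩ ⟨d, hd⟩
    exact ⟨c + d, tr_apply_apply hv hc hd⟩
  inv_mem' := by
    rintro g ⟨c, hc⟩
    refine ⟨-c, fun x => g.injective ?_⟩
    show g (g.symm x) = g (x + (-c * φ x) • v)
    rw [g.apply_symm_apply, map_add, hc x, map_smul, hc v, hv]
    module

theorem mem_trG {φ : Module.Dual F V} {v : V} {hv : φ v = 0} {g : V ≃ₗ[F] V} :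
    g ∈ trG hv ↔ ∃ c : F, ∀ x, g x = x + (c * φ x) • v := Iff.rfl

/-- A member of a transvection group. -/
def tre {φ : Module.Dual F V} {v : V} (hv : φ v = 0) (c : F) : V ≃ₗ[F] V :=
  LinearEquiv.transvection (f := c • φ) (v := v) (by simp [hv])

theorem tre_apply {φ : Module.Dual F V} {v : V} (hv : φ v = 0) (c : F) (x : V) :
    tre hv c x = x + (c * φ x) • v := rfl

theorem tre_mem {φ : Module.Dual F V} {v : V} (hv : φ v = 0) (c : F) : tre hv c ∈ trG hv := ⟨c, fun _ => rfl⟩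

theorem exists_tre {φ : Module.Dual F V} {v : V} {hv : φ v = 0} {g : V ≃ₗ[F] V} (hg : g ∈ trG hv) :
    ∃ c, g = tre hv c := let ⟨c, hc⟩ := hg; ⟨c, LinearEquiv.ext hc⟩

theorem tre_one {φ : Module.Dual F V} {v : V} (hv : φ v = 0) {u : V} (hu : φ u ≠ 0) (hne : v ≠ 0) {c : F} :
    tre hv c = 1 ↔ c = 0 := by
  constructor
  · intro h
    have := LinearEquiv.congr_fun h u
    rw [tre_apply] at this
    simpa [hu, hne] using this
  · rintro rfl
    exact LinearEquiv.ext fun x => by simp [tre_apply]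

theorem trG_ne_bot {φ : Module.Dual F V} {v : V} (hv : φ v = 0) (hφ : φ ≠ 0) (hne : v ≠ 0) : trG hv ≠ ⊥ := by
  obtain ⟨u, hu⟩ : ∃ u, φ u ≠ 0 := by by_contra h; push Not at h; exact hφ (LinearMap.ext h)
  intro h
  have h1 := tre_mem hv (1 : F)
  rw [h, Subgroup.mem_bot, tre_one hv hu hne] at h1
  exact one_ne_zero h1

theorem trG_smul {φ : Module.Dual F V} {v : V} (hv : φ v = 0) {a : F} (ha : a ≠ 0) (ha' : (a • φ) v = 0) :
    trG ha' = trG hv := by
  ext g
  constructor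
  · rintro ⟨c, hc⟩
    exact ⟨c * a, fun x => by rw [hc x, LinearMap.smul_apply, smul_eq_mul, mul_assoc]⟩
  · rintro ⟨c, hc⟩
    refine ⟨c * a⁻¹, fun x => ?_⟩
    rw [hc x, LinearMap.smul_apply, smul_eq_mul]
    congr 2
    field_simp

theorem trG_congr {φ φ' : Module.Dual F V} {v v' : V} (hv : φ v = 0) (hv' : φ' v' = 0)
    (h : ∀ x, φ x • v = φ' x • v') : trG hv = trG hv' := by
  ext g
  simp only [mem_trG, mul_smul, h]

theorem trG_conj {φ : Module.Dual F V} {v : V} (hv : φ v = 0) (g : V ≃ₗ[F] V) :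
    conjBy (trG hv) g = trG (φ := φ ∘ₗ (g.symm : V →ₗ[F] V)) (v := g v) (by simp [hv]) := by
  ext h
  rw [Cfsg.Agent.Lib.RankOne.mem_conjBy]
  constructor
  · rintro ⟨c, hc⟩
    refine ⟨c, fun x => ?_⟩
    have := congrArg g (hc (g.symm x))
    change g (g.symm (h (g (g.symm x)))) = _ at this
    simpa using this
  · rintro ⟨c, hc⟩
    refine ⟨c, fun x => ?_⟩
    show g.symm (h (g x)) = _
    rw [hc]
    simp

theorem trG_comm {φ ψ : Module.Dual F V} {v w : V} (hv : φ v = 0) (hw : ψ w = 0) (h1 : φ w = 0) (h2 : ψ v = 0) :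
    ⁅trG hv, trG hw⁆ = ⊥ := by
  rw [Cfsg.Agent.Lib.RankOne.commutator_eq_bot_iff]
  intro a ha b hb
  obtain ⟨c, rfl⟩ := exists_tre ha
  obtain ⟨d, rfl⟩ := exists_tre hb
  refine LinearEquiv.ext fun x => ?_
  show tre hv c (tre hw d x) = tre hw d (tre hv c x)
  simp only [tre_apply, map_add, map_smul, h1, h2, smul_zero, add_zero]
  module

/-- The linear map of a matrix on a hyperbolic plane. -/
def planeMap (φ ψ : Module.Dual F V) (v w : V) (g : Matrix (Fin 2) (Fin 2) F) : Module.End F V where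
  toFun x := x + ((g 0 0 - 1) * ψ x + g 0 1 * φ x) • v + (g 1 0 * ψ x + (g 1 1 - 1) * φ x) • w
  map_add' x y := by simp only [map_add]; module
  map_smul' c x := by simp only [map_smul, smul_eq_mul, RingHom.id_apply]; module

section Plane

variable {φ ψ : Module.Dual F V} {v w : V} (hφv : φ v = 0) (hψw : ψ w = 0) (hφw : φ w = 1) (hψv : ψ v = 1)

/-- The action of `SL₂` on a hyperbolic plane. -/
def planeHom : SL(2, F) →* (V ≃ₗ[F] V) :=
  (LinearMap.GeneralLinearGroup.generalLinearEquiv F V).toMonoidHom.comp (MonoidHom.toHomUnits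
    { toFun := fun g => planeMap φ ψ v w g
      map_one' := LinearMap.ext fun x => by simp [planeMap]
      map_mul' := fun g h => LinearMap.ext fun x => by
        show planeMap φ ψ v w (g * h : SL(2, F)) x = planeMap φ ψ v w g (planeMap φ ψ v w h x)
        simp only [planeMap, Matrix.SpecialLinearGroup.coe_mul, Matrix.mul_apply, Fin.sum_univ_two, LinearMap.coe_mk,
          AddHom.coe_mk, map_add, map_smul, hφv, hψw, hφw, hψv, smul_eq_mul]
        module })

theorem planeHom_apply (g : SL(2, F)) (x : V) :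
    planeHom hφv hψw hφw hψv g x = x + ((g 0 0 - 1) * ψ x + g 0 1 * φ x) • v + (g 1 0 * ψ x + (g 1 1 - 1) * φ x) • w :=
  rfl

theorem planeHom_injective : Function.Injective (planeHom hφv hψw hφw hψv) := by
  refine (injective_iff_map_eq_one _).mpr fun g hg => ?_
  have hv := LinearEquiv.congr_fun hg v
  have hw := LinearEquiv.congr_fun hg w
  rw [planeHom_apply] at hv hw
  simp only [hφv, hψv, hψw, hφw, mul_one, mul_zero, add_zero, zero_add] at hv hw
  have a1 := congrArg ψ hv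
  have a2 := congrArg φ hv
  have a3 := congrArg ψ hw
  have a4 := congrArg φ hw
  simp [hφv, hψv, hψw, hφw] at a1 a2 a3 a4
  refine Subtype.ext (Matrix.ext fun i j => ?_)
  fin_cases i <;> fin_cases j <;> simp_all [sub_eq_zero]

theorem planeHom_upper : (upperUnipotentSL2 F).map (planeHom hφv hψw hφw hψv) = trG hφv := by
  ext g
  constructor
  · rintro ⟨h, hh, rfl⟩
    obtain ⟨t, ht⟩ := (Cfsg.Agent.S5016.mem_upper h).mp hh
    exact ⟨t, fun x => by rw [planeHom_apply, ht]; simp⟩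
  · intro hg
    obtain ⟨c, rfl⟩ := exists_tre hg
    exact ⟨Cfsg.Agent.S5016.U1 c, (Cfsg.Agent.S5016.mem_upper _).mpr ⟨c, rfl⟩, LinearEquiv.ext fun x => by
      rw [planeHom_apply, tre_apply]; simp [Cfsg.Agent.S5016.U1]⟩

theorem planeHom_lower : (lowerUnipotentSL2 F).map (planeHom hφv hψw hφw hψv) = trG hψw := by
  ext g
  constructor
  · rintro ⟨h, hh, rfl⟩
    obtain ⟨t, ht⟩ := (Cfsg.Agent.S5016.mem_lower h).mp hh
    exact ⟨t, fun x => by rw [planeHom_apply, ht]; simp⟩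
  · intro hg
    obtain ⟨c, rfl⟩ := exists_tre hg
    exact ⟨Cfsg.Agent.S5016.L1 c, (Cfsg.Agent.S5016.mem_lower _).mpr ⟨c, rfl⟩, LinearEquiv.ext fun x => by
      rw [planeHom_apply, tre_apply]; simp [Cfsg.Agent.S5016.L1]⟩

end Plane

section Pulled

variable {G : Type*} [Group G] (ι : G →* (V ≃ₗ[F] V))

/-- A root group in a group acting on `V`. -/
abbrev rootG {φ : Module.Dual F V} {v : V} (hv : φ v = 0) : Subgroup G := (trG hv).comap ι

variable {ι} {φ ψ : Module.Dual F V} {v w : V} {hv : φ v = 0} {hw : ψ w = 0}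

theorem rootG_map (h : trG hv ≤ ι.range) : (rootG ι hv).map ι = trG hv := Subgroup.map_comap_eq_self h

theorem rootG_ne_bot (h : trG hv ≤ ι.range) (hφ : φ ≠ 0) (hne : v ≠ 0) : rootG ι hv ≠ ⊥ := fun e =>
  trG_ne_bot hv hφ hne (by rw [← rootG_map h, e, Subgroup.map_bot])

theorem rootG_comm (hι : Function.Injective ι) (h1 : φ w = 0) (h2 : ψ v = 0) :
    ⁅rootG ι hv, rootG ι hw⁆ = ⊥ := by
  rw [Cfsg.Agent.Lib.RankOne.commutator_eq_bot_iff]
  intro a ha b hb
  refine hι ?_
  rw [map_mul, map_mul]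
  exact Cfsg.Agent.Lib.RankOne.commutator_eq_bot_iff.mp (trG_comm hv hw h1 h2) _ ha _ hb

theorem rootG_isMulCommutative (hι : Function.Injective ι) : IsMulCommutative (rootG ι hv) :=
  ⟨⟨fun a b => Subtype.ext (Cfsg.Agent.Lib.RankOne.commutator_eq_bot_iff.mp
    (rootG_comm (hv := hv) (hw := hv) hι hv hv) _ a.2 _ b.2)⟩⟩

theorem rootG_conj (g : G) : conjBy (rootG ι hv) g =
    rootG ι (φ := φ ∘ₗ ((ι g).symm : V →ₗ[F] V)) (v := ι g v) (by simp [hv]) := by
  ext x
  rw [Cfsg.Agent.Lib.RankOne.mem_conjBy, Subgroup.mem_comap, Subgroup.mem_comap, ← trG_conj hv (ι g),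
    Cfsg.Agent.Lib.RankOne.mem_conjBy, map_mul, map_mul, map_inv]

/-- Opposite transvection groups form a rank one pair with an image of `SL₂`. -/
theorem rootG_pair (hι : Function.Injective ι) (h : trG hv ≤ ι.range) (h' : trG hw ≤ ι.range) (h1 : φ w ≠ 0)
    (h2 : ψ v ≠ 0) : IsRankOnePair (rootG ι hv) (rootG ι hw) ∧ IsPSL2PairOver F (rootG ι hv) (rootG ι hw) := by
  have hφv : ((φ w)⁻¹ • φ) v = 0 := by simp [hv]
  have hψw : ((ψ v)⁻¹ • ψ) w = 0 := by simp [hw]
  have hφw : ((φ w)⁻¹ • φ) w = 1 := by simp [h1]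
  have hψv : ((ψ v)⁻¹ • ψ) v = 1 := by simp [h2]
  set f := planeHom hφv hψw hφw hψv with hf
  have eU : (upperUnipotentSL2 F).map f = trG hv :=
    (planeHom_upper hφv hψw hφw hψv).trans (trG_smul hv (inv_ne_zero h1) _)
  have eL : (lowerUnipotentSL2 F).map f = trG hw :=
    (planeHom_lower hφv hψw hφw hψv).trans (trG_smul hw (inv_ne_zero h2) _)
  have hrange : f.range ≤ ι.range := by
    rw [MonoidHom.range_eq_map, ← Cfsg.Agent.S5016.gen_top F, Subgroup.map_sup, eU, eL]
    exact sup_le h' h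
  let j : SL(2, F) →* G := (MonoidHom.ofInjective hι).symm.toMonoidHom.comp
    (f.codRestrict ι.range fun x => hrange ⟨x, rfl⟩)
  have hj : ∀ x, ι (j x) = f x := fun x => congrArg Subtype.val ((MonoidHom.ofInjective hι).apply_symm_apply _)
  have hjinj : Function.Injective j := fun a b e =>
    planeHom_injective hφv hψw hφw hψv (by rw [← hf, ← hj, ← hj, e])
  have hmap : ∀ P : Subgroup SL(2, F), ∀ Q : Subgroup (V ≃ₗ[F] V), P.map f = Q → P.map j = Q.comap ι := by
    rintro P Q rfl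
    refine Subgroup.ext fun x => ⟨?_, ?_⟩
    · rintro ⟨p, hp, rfl⟩
      exact ⟨p, hp, (hj p).symm⟩
    · rintro ⟨p, hp, e⟩
      exact ⟨p, hp, hι ((hj p).trans e)⟩
  have eA : (upperUnipotentSL2 F).map j = rootG ι hv := hmap _ _ eU
  have eB : (lowerUnipotentSL2 F).map j = rootG ι hw := hmap _ _ eL
  refine ⟨?_, j, ?_, ?_, eA, eB⟩
  · rw [← eA, ← eB]
    exact pair_map hjinj (RankOnePair_symm (Cfsg.Agent.S5016.result F).2.1.1)
  · rw [← eA, ← eB, ← Subgroup.map_sup, sup_comm, Cfsg.Agent.S5016.gen_top, MonoidHom.range_eq_map]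
  · rw [(MonoidHom.ker_eq_bot_iff j).mpr hjinj]
    exact bot_le

/-- The commutator of two transvection groups meeting in one incidence. -/
theorem rootG_commutator (hι : Function.Injective ι) (h : trG hv ≤ ι.range) (h' : trG hw ≤ ι.range) (h1 : φ w ≠ 0)
    (h2 : ψ v = 0) :
    ⁅rootG ι hv, rootG ι hw⁆ = rootG ι (φ := ψ) (v := v) h2 ∧
      (∀ c ∈ ⁅rootG ι hv, rootG ι hw⁆, ∀ x ∈ rootG ι hv ⊔ rootG ι hw, c * x = x * c) ∧
      (∀ a ∈ rootG ι hv, a ≠ 1 →
        Subgroup.closure ((fun b : G => a * b * a⁻¹ * b⁻¹) '' (rootG ι hw : Set G)) = ⁅rootG ι hv, rootG ι hw⁆) ∧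
      (∀ b ∈ rootG ι hw, b ≠ 1 →
        Subgroup.closure ((fun a : G => a * b * a⁻¹ * b⁻¹) '' (rootG ι hv : Set G)) = ⁅rootG ι hv, rootG ι hw⁆) := by
  have key : ∀ c d : F, tre hv c * tre hw d * (tre hv c)⁻¹ * (tre hw d)⁻¹ =
      tre (φ := ψ) (v := v) h2 (c * d * φ w) := by
    intro c d
    rw [mul_inv_eq_iff_eq_mul, mul_inv_eq_iff_eq_mul]
    refine LinearEquiv.ext fun x => ?_
    show tre hv c (tre hw d x) = tre h2 (c * d * φ w) (tre hw d (tre hv c x))
    simp only [tre_apply, map_add, map_smul, hv, hw, h2, smul_eq_mul, mul_zero, add_zero]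
    module
  have hc : ∀ a ∈ rootG ι hv, ∀ b ∈ rootG ι hw, ∃ c d : F, ι a = tre hv c ∧ ι b = tre hw d ∧
      ι (a * b * a⁻¹ * b⁻¹) = tre (φ := ψ) (v := v) h2 (c * d * φ w) := by
    intro a ha b hb
    obtain ⟨c, ea⟩ := exists_tre (Subgroup.mem_comap.mp ha)
    obtain ⟨d, eb⟩ := exists_tre (Subgroup.mem_comap.mp hb)
    exact ⟨c, d, ea, eb, by rw [map_mul, map_mul, map_mul, map_inv, map_inv, ea, eb, key]⟩
  have hle : ⁅rootG ι hv, rootG ι hw⁆ ≤ rootG ι (φ := ψ) (v := v) h2 := by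
    refine Subgroup.commutator_le.mpr fun a ha b hb => ?_
    obtain ⟨c, d, -, -, e⟩ := hc a ha b hb
    rw [Subgroup.mem_comap, commutatorElement_def, e]
    exact tre_mem _ _
  have hA : ∀ a ∈ rootG ι hv, a ≠ 1 → rootG ι (φ := ψ) (v := v) h2 ≤
      Subgroup.closure ((fun b : G => a * b * a⁻¹ * b⁻¹) '' (rootG ι hw : Set G)) := by
    intro a ha ha1 x hx
    obtain ⟨c, ea⟩ := exists_tre (Subgroup.mem_comap.mp ha)
    have hc0 : c ≠ 0 := fun h0 => ha1 (hι (by
      rw [map_one, ea, h0]; exact LinearEquiv.ext fun x => by simp [tre_apply]))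
    obtain ⟨t, et⟩ := exists_tre (Subgroup.mem_comap.mp hx)
    obtain ⟨b, eb⟩ := h' (tre_mem hw (t / (c * φ w)))
    refine Subgroup.subset_closure ⟨b, by show ι b ∈ trG hw; rw [eb]; exact tre_mem _ _, hι ?_⟩
    rw [map_mul, map_mul, map_mul, map_inv, map_inv, ea, eb, key, et]
    congr 1
    field_simp
  have hB : ∀ b ∈ rootG ι hw, b ≠ 1 → rootG ι (φ := ψ) (v := v) h2 ≤
      Subgroup.closure ((fun a : G => a * b * a⁻¹ * b⁻¹) '' (rootG ι hv : Set G)) := by
    intro b hb hb1 x hx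
    obtain ⟨d, eb⟩ := exists_tre (Subgroup.mem_comap.mp hb)
    have hd0 : d ≠ 0 := fun h0 => hb1 (hι (by
      rw [map_one, eb, h0]; exact LinearEquiv.ext fun x => by simp [tre_apply]))
    obtain ⟨t, et⟩ := exists_tre (Subgroup.mem_comap.mp hx)
    obtain ⟨a, ea⟩ := h (tre_mem hv (t / (d * φ w)))
    refine Subgroup.subset_closure ⟨a, by show ι a ∈ trG hv; rw [ea]; exact tre_mem _ _, hι ?_⟩
    rw [map_mul, map_mul, map_mul, map_inv, map_inv, ea, eb, key, et]
    congr 1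
    field_simp
  have eD : ⁅rootG ι hv, rootG ι hw⁆ = rootG ι (φ := ψ) (v := v) h2 := by
    refine le_antisymm hle ?_
    by_cases hv0 : v = 0
    · intro x hx
      obtain ⟨t, et⟩ := exists_tre (Subgroup.mem_comap.mp hx)
      have : ι x = ι 1 := by rw [map_one, et]; exact LinearEquiv.ext fun y => by simp [tre_apply, hv0]
      rw [hι this]; exact one_mem _
    obtain ⟨a, ea⟩ := h (tre_mem hv 1)
    have ha : a ∈ rootG ι hv := by rw [Subgroup.mem_comap, ea]; exact tre_mem hv 1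
    have ha1 : a ≠ 1 := fun e => by
      obtain ⟨u, hu⟩ := DFunLike.ne_iff.mp (show φ ≠ 0 from fun e => h1 (by rw [e]; rfl))
      rw [e, map_one] at ea
      exact one_ne_zero ((tre_one hv hu hv0).mp ea.symm)
    refine (hA a ha ha1).trans ((Subgroup.closure_le _).mpr ?_)
    rintro _ ⟨b, hb, rfl⟩
    exact Subgroup.commutator_mem_commutator ha hb
  refine ⟨eD, ?_, fun a ha ha1 => le_antisymm ?_ (eD.le.trans (hA a ha ha1)),
    fun b hb hb1 => le_antisymm ?_ (eD.le.trans (hB b hb hb1))⟩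
  · intro c hc' x hx
    have hle2 : rootG ι hv ⊔ rootG ι hw ≤ Subgroup.centralizer ((rootG ι (φ := ψ) (v := v) h2 : Subgroup G) : Set G) := by
      refine sup_le ?_ ?_ <;> rw [← Subgroup.commutator_eq_bot_iff_le_centralizer]
      · exact rootG_comm hι hv h2
      · exact rootG_comm hι h2 hw
    exact Subgroup.mem_centralizer_iff.mp (hle2 hx) c (hle hc')
  · refine (Subgroup.closure_le _).mpr ?_
    rintro _ ⟨b, hb, rfl⟩
    exact Subgroup.commutator_mem_commutator ha hb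
  · refine (Subgroup.closure_le _).mpr ?_
    rintro _ ⟨a, ha, rfl⟩
    exact Subgroup.commutator_mem_commutator ha hb

/-- A pair meeting in exactly one incidence is not a rank one pair. -/
theorem rootG_not_pair (hι : Function.Injective ι) (h : trG hv ≤ ι.range) (h' : trG hw ≤ ι.range) (hφ : φ ≠ 0) (hvne : v ≠ 0)
    (h2 : ψ v = 0) : ¬ IsRankOnePair (rootG ι hv) (rootG ι hw) := by
  intro hp
  obtain ⟨a, ha, ha1⟩ : ∃ a ∈ rootG ι hv, a ≠ 1 := by
    by_contra hno; push Not at hno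
    exact rootG_ne_bot h hφ hvne ((Subgroup.eq_bot_iff_forall _).mpr hno)
  obtain ⟨b, hb, -, e⟩ := hp.cond_left a ha ha1
  obtain ⟨c, ea⟩ := exists_tre (Subgroup.mem_comap.mp ha)
  obtain ⟨d, eb⟩ := exists_tre (Subgroup.mem_comap.mp hb)
  have hfix : ι b⁻¹ v = v := by
    rw [map_inv, eb]
    exact (tre hw d).injective (((tre hw d).apply_symm_apply v).trans (by rw [tre_apply, h2]; simp))
  have key := congrArg (Subgroup.map ι) e
  rw [conjBy_map, conjBy_map, rootG_map h, rootG_map h', trG_conj, trG_conj] at key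
  -- the centres agree
  obtain ⟨u, hu⟩ := DFunLike.ne_iff.mp hφ
  obtain ⟨t, ht⟩ : tre (φ := φ ∘ₗ ((ι b⁻¹).symm : V →ₗ[F] V)) (v := ι b⁻¹ v) (by rw [LinearMap.comp_apply, LinearEquiv.coe_coe, LinearEquiv.symm_apply_apply, hv]) (1 : F) ∈
      trG (φ := ψ ∘ₗ ((ι a⁻¹).symm : V →ₗ[F] V)) (v := ι a⁻¹ w) (by rw [LinearMap.comp_apply, LinearEquiv.coe_coe, LinearEquiv.symm_apply_apply, hw]) := key ▸ tre_mem _ _
  have h3 := ht (ι b⁻¹ u)
  rw [tre_apply, add_right_inj, hfix] at h3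
  simp only [LinearMap.comp_apply, LinearEquiv.coe_coe, LinearEquiv.symm_apply_apply, one_mul] at h3
  have hv' : ∃ s : F, v = s • ι a⁻¹ w :=
    ⟨(φ u)⁻¹ * (t * ψ ((ι a⁻¹).symm (ι b⁻¹ u))), by rw [mul_smul, ← h3, inv_smul_smul₀ hu]⟩
  obtain ⟨s, hs⟩ := hv'
  have haw : ι a⁻¹ w = w + (-c * φ w) • v := by
    rw [map_inv, ea]
    refine (tre hv c).injective (((tre hv c).apply_symm_apply w).trans ?_)
    rw [tre_apply, map_add, map_smul, hv]
    module
  have hφw : φ w = 0 := by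
    have h4 := congrArg φ hs
    rw [map_smul, haw, map_add, map_smul, hv, smul_zero, add_zero, smul_eq_mul] at h4
    have hs0 : s ≠ 0 := fun h0 => hvne (by rw [hs, h0, zero_smul])
    exact (mul_eq_zero.mp h4.symm).resolve_left hs0
  exact ha1 (Cfsg.Agent.Lib.RankOne.eq_one_of_normalizes hp ha (Cfsg.Agent.Lib.RankOne.conjBy_eq_self_of_commute
    fun b hb => Cfsg.Agent.Lib.RankOne.commutator_eq_bot_iff.mp (rootG_comm hι hφw h2) a ha b hb))

end Pulled

end Cfsg.Agent.Lib.Transv
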