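import Mathlib

/-!
# Sets of incident pairs closed under the operations of a transvection group

The linear algebra of McLaughlin's theorem: such a set with the partner property splits into pieces of type `SL`
or `Sp`.
-/

set_option autoImplicit false

namespace Cfsg.Agent.Lib.Transv.Engine

variable {F : Type*} [Field F] {V : Type*} [AddCommGroup V] [Module F V]

@[simp] theorem flip_app (B : LinearMap.BilinForm F V) (x y : V) : B.flip x y = B y x := rfl

/-- The axioms. -/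
structure Closed (P : Set (Module.Dual F V × V)) : Prop where
  two : (2 : F) ≠ 0
  inc : ∀ {φ : Module.Dual F V} {v : V}, (φ, v) ∈ P → φ v = 0
  zero_left : ∀ v : V, ((0 : Module.Dual F V), v) ∈ P
  zero_right : ∀ φ : Module.Dual F V, (φ, (0 : V)) ∈ P
  smul_left : ∀ {φ : Module.Dual F V} {v : V} (c : F), (φ, v) ∈ P → (c • φ, v) ∈ P
  smul_right : ∀ {φ : Module.Dual F V} {v : V} (c : F), (φ, v) ∈ P → (φ, c • v) ∈ P
  conj : ∀ {φ ψ : Module.Dual F V} {v w : V}, (φ, v) ∈ P → (ψ, w) ∈ P → (ψ - ψ v • φ, w + φ w • v) ∈ P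
  prod3 : ∀ {φ₁ φ₂ φ₃ ψ : Module.Dual F V} {v₁ v₂ v₃ w : V}, (φ₁, v₁) ∈ P → (φ₂, v₂) ∈ P → (φ₃, v₃) ∈ P →
    φ₁ v₂ = 0 → φ₁ v₃ = 0 → φ₂ v₁ = 0 → φ₂ v₃ = 0 → φ₃ v₁ = 0 → φ₃ v₂ = 0 → ψ w = 0 →
    (∀ u, φ₁ u • v₁ + φ₂ u • v₂ + φ₃ u • v₃ = ψ u • w) → (ψ, w) ∈ P
  partner : ∀ {φ : Module.Dual F V} {v : V}, (φ, v) ∈ P → φ ≠ 0 → v ≠ 0 → ∃ ψ w, (ψ, w) ∈ P ∧ φ w ≠ 0 ∧ ψ v ≠ 0

variable {P : Set (Module.Dual F V × V)}

theorem Closed.add_left (hP : Closed P) {φ ψ : Module.Dual F V} {v : V} (h1 : (φ, v) ∈ P) (h2 : (ψ, v) ∈ P) :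
    (φ + ψ, v) ∈ P :=
  hP.prod3 h1 h2 (hP.zero_left 0) (hP.inc h1) (map_zero _) (hP.inc h2) (map_zero _) rfl rfl
    (by simp [hP.inc h1, hP.inc h2]) fun u => by simp [add_smul]

theorem Closed.add_right (hP : Closed P) {φ : Module.Dual F V} {v w : V} (h1 : (φ, v) ∈ P) (h2 : (φ, w) ∈ P) :
    (φ, v + w) ∈ P :=
  hP.prod3 h1 h2 (hP.zero_left 0) (hP.inc h2) (map_zero _) (hP.inc h1) (map_zero _) rfl rfl
    (by simp [hP.inc h1, hP.inc h2]) fun u => by simp [smul_add]

theorem Closed.sub_left (hP : Closed P) {φ ψ : Module.Dual F V} {v : V} (h1 : (φ, v) ∈ P) (h2 : (ψ, v) ∈ P) :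
    (φ - ψ, v) ∈ P := by
  convert hP.add_left h1 (hP.smul_left (-1) h2) using 2; module

theorem Closed.sub_right (hP : Closed P) {φ : Module.Dual F V} {v w : V} (h1 : (φ, v) ∈ P) (h2 : (φ, w) ∈ P) :
    (φ, v - w) ∈ P := by
  simpa [sub_eq_add_neg] using hP.add_right h1 (hP.smul_right (-1) h2)

theorem Closed.div_left (hP : Closed P) {φ : Module.Dual F V} {v : V} {c : F} (hc : c ≠ 0) (h : (c • φ, v) ∈ P) :
    (φ, v) ∈ P := by
  simpa [smul_smul, inv_mul_cancel₀ hc] using hP.smul_left c⁻¹ h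

/-- The commutator rule. -/
theorem Closed.comm (hP : Closed P) {φ ψ : Module.Dual F V} {v w : V} (h1 : (φ, v) ∈ P) (h2 : (ψ, w) ∈ P)
    (h : ψ v = 0) (hne : φ w ≠ 0) : (ψ, v) ∈ P := by
  have e := hP.conj h1 h2
  rw [h, zero_smul, sub_zero] at e
  have e2 := hP.sub_right e h2
  rw [add_sub_cancel_left] at e2
  simpa [smul_smul, inv_mul_cancel₀ hne] using hP.smul_right (φ w)⁻¹ e2

/-! ### Linear algebra of a decomposition -/

theorem decomp {W U : Submodule F V} (h : IsCompl W U) (v : V) : ∃ a ∈ W, ∃ b ∈ U, v = a + b := by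
  obtain ⟨a, ha, b, hb, e⟩ := Submodule.mem_sup.mp (h.sup_eq_top ▸ Submodule.mem_top : v ∈ W ⊔ U)
  exact ⟨a, ha, b, hb, e.symm⟩

theorem dual_ext {W U : Submodule F V} (h : IsCompl W U) {φ ψ : Module.Dual F V} (h1 : ∀ x ∈ W, φ x = ψ x)
    (h2 : ∀ x ∈ U, φ x = ψ x) : φ = ψ := by
  refine LinearMap.ext fun v => ?_
  obtain ⟨a, ha, b, hb, rfl⟩ := decomp h v
  rw [map_add, map_add, h1 a ha, h2 b hb]

theorem dual_split {W U : Submodule F V} (h : IsCompl W U) (φ : Module.Dual F V) :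
    ∃ α β : Module.Dual F V, φ = α + β ∧ (∀ x ∈ U, α x = 0) ∧ (∀ x ∈ W, β x = 0) := by
  refine ⟨φ ∘ₗ W.subtype ∘ₗ W.projectionOnto U h, φ - φ ∘ₗ W.subtype ∘ₗ W.projectionOnto U h, by abel, ?_, ?_⟩
  · intro x hx
    simp [Submodule.projection_apply_of_mem_right h hx]
  · intro x hx
    simp [(Submodule.projection_eq_self_iff h x).mpr hx]

theorem exists_dual {W U : Submodule F V} (h : IsCompl W U) {S : Submodule F V} (hS : S ≤ W) {x : V} (hx : x ∈ W)
    (hxS : x ∉ S) : ∃ μ : Module.Dual F V, (∀ u ∈ U, μ u = 0) ∧ (∀ s ∈ S, μ s = 0) ∧ μ x = 1 := by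
  obtain ⟨f, hf, hm⟩ := Submodule.exists_dual_map_eq_bot_of_notMem hxS inferInstance
  obtain ⟨α, β, e, hα, hβ⟩ := dual_split h f
  refine ⟨(f x)⁻¹ • α, fun u hu => by simp [hα u hu], fun s hs => ?_, ?_⟩
  · have h1 : f s = 0 := by
      have := hm.le (Submodule.mem_map_of_mem hs)
      simpa using this
    rw [e, LinearMap.add_apply, hβ s (hS hs), add_zero] at h1
    simp [h1]
  · have e1 : f x = α x := by rw [e, LinearMap.add_apply, hβ x hx, add_zero]
    rw [LinearMap.smul_apply, smul_eq_mul, ← e1, inv_mul_cancel₀ hf]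

theorem exists_dual_one {W U : Submodule F V} (h : IsCompl W U) {x : V} (hx : x ∈ W) (hx0 : x ≠ 0) (c : F) :
    ∃ μ : Module.Dual F V, (∀ u ∈ U, μ u = 0) ∧ μ x = c := by
  obtain ⟨μ, h1, -, h3⟩ := exists_dual h (bot_le : (⊥ : Submodule F V) ≤ W) hx
    (fun h => hx0 ((Submodule.mem_bot F).mp h))
  exact ⟨c • μ, fun u hu => by simp [h1 u hu], by simp [h3]⟩

theorem exists_not_mem {W S : Submodule F V} [FiniteDimensional F V] (h : Module.finrank F S < Module.finrank F W) :
    ∃ x ∈ W, x ∉ S := by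
  by_contra hno
  push Not at hno
  exact absurd (Submodule.finrank_mono (show W ≤ S from hno)) (not_le.mpr h)

theorem finrank_span_le [FiniteDimensional F V] (a : V) : Module.finrank F (Submodule.span F {a}) ≤ 1 := by
  by_cases ha : a = 0
  · rw [ha, Submodule.span_zero_singleton, finrank_bot]; exact zero_le_one
  · rw [finrank_span_singleton ha]

theorem finrank_span_two_le [FiniteDimensional F V] (a b : V) : Module.finrank F (Submodule.span F {a, b}) ≤ 2 := by
  rw [show ({a, b} : Set V) = {a} ∪ {b} from rfl, Submodule.span_union]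
  exact (Submodule.finrank_add_le_finrank_add_finrank _ _).trans (add_le_add (finrank_span_le a) (finrank_span_le b))

/-! ### States -/

/-- A piece of type `Sp`. -/
structure SpState (P : Set (Module.Dual F V × V)) (W U : Submodule F V) (B : LinearMap.BilinForm F V) : Prop where
  compl : IsCompl W U
  alt : B.IsAlt
  rad : ∀ u ∈ U, ∀ x, B u x = 0
  nondeg : ∀ w ∈ W, (∀ x ∈ W, B x w = 0) → w = 0
  two_le : 2 ≤ Module.finrank F W
  mem : ∀ w ∈ W, (B.flip w, w) ∈ P

/-- A piece of type `SL`. -/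
structure SLState (P : Set (Module.Dual F V × V)) (W U : Submodule F V) : Prop where
  compl : IsCompl W U
  three_le : 3 ≤ Module.finrank F W
  mem : ∀ (φ : Module.Dual F V) (v : V), v ∈ W → (∀ u ∈ U, φ u = 0) → φ v = 0 → (φ, v) ∈ P

/-- What the extension step uses. -/
structure Base (P : Set (Module.Dual F V × V)) (W U : Submodule F V) : Prop where
  compl : IsCompl W U
  two_le : 2 ≤ Module.finrank F W
  spanL : ∀ {μ : Module.Dual F V} {b : V}, b ∈ U → (∀ u ∈ U, μ u = 0) → μ ≠ 0 → (μ, b) ∈ P →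
    ∀ μ' : Module.Dual F V, (∀ u ∈ U, μ' u = 0) → (μ', b) ∈ P
  spanR : ∀ {β : Module.Dual F V} {w : V}, w ∈ W → w ≠ 0 → (∀ x ∈ W, β x = 0) → (β, w) ∈ P →
    ∀ w' ∈ W, (β, w') ∈ P
  hitL : ∀ c ∈ W, c ≠ 0 → ∃ α w, w ∈ W ∧ w ≠ 0 ∧ (∀ u ∈ U, α u = 0) ∧ (α, w) ∈ P ∧ α c ≠ 0
  hitR : ∀ (ν : Module.Dual F V) (c : V), c ∈ W → ν c ≠ 0 →
    ∃ α w, w ∈ W ∧ (∀ u ∈ U, α u = 0) ∧ α ≠ 0 ∧ (α, w) ∈ P ∧ ν w ≠ 0

variable [FiniteDimensional F V] {W U : Submodule F V} {B : LinearMap.BilinForm F V}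

theorem SLState.base (hP : Closed P) (h : SLState P W U) : Base P W U where
  compl := h.compl
  two_le := le_trans (by norm_num) h.three_le
  spanL := by
    intro μ b hb hμ hμ0 hm μ' hμ'
    obtain ⟨w, hw, hμw⟩ : ∃ w ∈ W, μ w ≠ 0 := by
      by_contra hno; push Not at hno
      exact hμ0 (dual_ext h.compl (fun x hx => by simpa using hno x hx) fun x hx => by simpa using hμ x hx)
    set γ := μ' - (μ' w / μ w) • μ with hγ
    have hγw : γ w = 0 := by simp [hγ, div_mul_cancel₀ _ hμw]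
    have hγU : ∀ u ∈ U, γ u = 0 := fun u hu => by simp [hγ, hμ u hu, hμ' u hu]
    have e := hP.conj (h.mem γ w hw hγU hγw) hm
    rw [hγU b hb, zero_smul, add_zero] at e
    have e1 := hP.div_left hμw (by simpa using hP.sub_left hm e)
    have e2 := hP.add_left e1 (hP.smul_left (μ' w / μ w) hm)
    simpa [hγ] using e2
  spanR := by
    intro β w hw hw0 hβ hm w' hw'
    by_cases hspan : w' ∈ Submodule.span F {w}
    · obtain ⟨c, rfl⟩ := Submodule.mem_span_singleton.mp hspan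
      exact hP.smul_right c hm
    obtain ⟨μ, hμU, hμS, hμw⟩ := exists_dual h.compl ((Submodule.span_singleton_le_iff_mem _ _).mpr hw') hw
      (fun hmem => hspan (by
        obtain ⟨c, hc⟩ := Submodule.mem_span_singleton.mp hmem
        have hc0 : c ≠ 0 := fun h0 => hw0 (by rw [← hc, h0, zero_smul])
        exact Submodule.mem_span_singleton.mpr ⟨c⁻¹, by rw [← hc, inv_smul_smul₀ hc0]⟩))
    have hμw' : μ w' = 0 := hμS w' (Submodule.mem_span_singleton_self w')
    have e := hP.conj (h.mem μ w' hw' hμU hμw') hm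
    rw [hβ w' hw', zero_smul, sub_zero, hμw, one_smul] at e
    simpa using hP.sub_right e hm
  hitL := by
    intro c hc hc0
    obtain ⟨w, hw, hwc⟩ := exists_not_mem (W := W) (S := Submodule.span F {c})
      (lt_of_le_of_lt (finrank_span_le c) (by linarith [h.three_le]))
    have hw0 : w ≠ 0 := fun e => hwc (e ▸ zero_mem _)
    obtain ⟨α, hαU, hαS, hαc⟩ := exists_dual h.compl ((Submodule.span_singleton_le_iff_mem _ _).mpr hw) hc
      (fun hmem => hwc (by
        obtain ⟨t, ht⟩ := Submodule.mem_span_singleton.mp hmem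
        have ht0 : t ≠ 0 := fun h0 => hc0 (by rw [← ht, h0, zero_smul])
        exact Submodule.mem_span_singleton.mpr ⟨t⁻¹, by rw [← ht, inv_smul_smul₀ ht0]⟩))
    exact ⟨α, w, hw, hw0, hαU, h.mem α w hw hαU (hαS w (Submodule.mem_span_singleton_self w)), by rw [hαc]; exact one_ne_zero⟩
  hitR := by
    intro ν c hc hνc
    obtain ⟨x, hx, hxc⟩ := exists_not_mem (W := W) (S := Submodule.span F {c})
      (lt_of_le_of_lt (finrank_span_le c) (by linarith [h.three_le]))
    obtain ⟨α, hαU, hαS, hαx⟩ := exists_dual h.compl ((Submodule.span_singleton_le_iff_mem _ _).mpr hc) hx hxc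
    exact ⟨α, c, hc, hαU, fun e => by simp [e] at hαx,
      h.mem α c hc hαU (hαS c (Submodule.mem_span_singleton_self c)), hνc⟩

theorem SpState.flip_apply_neg (h : SpState P W U B) (x y : V) : B.flip y x = -B y x := by
  rw [flip_app]; exact (LinearMap.IsAlt.neg h.alt y x).symm

theorem SpState.flip_rad (h : SpState P W U B) (y : V) : ∀ u ∈ U, B.flip y u = 0 := fun u hu => h.rad u hu y

theorem SpState.rad_right (h : SpState P W U B) {u : V} (hu : u ∈ U) (x : V) : B x u = 0 := by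
  rw [← LinearMap.IsAlt.neg h.alt, h.rad u hu, neg_zero]

theorem SpState.pair_ne (h : SpState P W U B) {w : V} (hw : w ∈ W) (h0 : w ≠ 0) : ∃ x ∈ W, B x w ≠ 0 := by
  by_contra hno; push Not at hno
  exact h0 (h.nondeg w hw hno)

theorem SpState.flip_ne (h : SpState P W U B) {w : V} (hw : w ∈ W) (h0 : w ≠ 0) : B.flip w ≠ 0 := fun e => by
  obtain ⟨x, -, hx⟩ := h.pair_ne hw h0
  exact hx (LinearMap.congr_fun e x)

theorem SpState.repr (h : SpState P W U B) {μ : Module.Dual F V} (hμ : ∀ u ∈ U, μ u = 0) :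
    ∃ y ∈ W, B.flip y = μ := by
  let L : W →ₗ[F] Module.Dual F W :=
    { toFun := fun y => (B.flip (y : V)) ∘ₗ W.subtype
      map_add' := fun a b => by ext; simp
      map_smul' := fun c a => by ext; simp }
  have hinj : Function.Injective L := (injective_iff_map_eq_zero L).mpr fun y hy =>
    Subtype.ext (h.nondeg y y.2 fun x hx => LinearMap.congr_fun hy ⟨x, hx⟩)
  obtain ⟨y, hy⟩ := (LinearMap.injective_iff_surjective_of_finrank_eq_finrank
    (Subspace.dual_finrank_eq (K := F) (V := W)).symm).mp hinj (μ ∘ₗ W.subtype)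
  exact ⟨y, y.2, dual_ext h.compl (fun x hx => LinearMap.congr_fun hy ⟨x, hx⟩)
    fun x hx => by rw [h.flip_rad _ x hx, hμ x hx]⟩

/-- Conjugation by a transvection of the form. -/
theorem flip_move (hB : B.IsAlt) (hP : Closed P) {u : V} (hu : (B.flip u, u) ∈ P) {ψ : Module.Dual F V} {w : V}
    (hm : (ψ, w) ∈ P) (c : F) : (ψ - (c * ψ u) • B.flip u, w + (c * B w u) • u) ∈ P := by
  have e := hP.conj (hP.smul_left c hu) hm
  simpa [smul_smul, mul_comm] using e

theorem SpState.base (hP : Closed P) (h : SpState P W U B) : Base P W U where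
  compl := h.compl
  two_le := h.two_le
  spanL := by
    intro μ b hb hμ hμ0 hm μ' hμ'
    obtain ⟨y, hy, rfl⟩ := h.repr hμ'
    have step : ∀ z ∈ W, μ z ≠ 0 → (B.flip z, b) ∈ P := fun z hz hne => by
      have e := flip_move h.alt hP (h.mem z hz) hm 1
      rw [h.rad b hb, mul_zero, zero_smul, add_zero, one_mul] at e
      exact hP.div_left hne (by simpa using hP.sub_left hm e)
    by_cases hy1 : μ y ≠ 0
    · exact step y hy hy1
    push Not at hy1
    obtain ⟨z, hz, hμz⟩ : ∃ z ∈ W, μ z ≠ 0 := by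
      by_contra hno; push Not at hno
      exact hμ0 (dual_ext h.compl (fun x hx => by simpa using hno x hx) fun x hx => by simpa using hμ x hx)
    have e := hP.sub_left (step (y + z) (add_mem hy hz) (by rwa [map_add, hy1, zero_add])) (step z hz hμz)
    simpa using e
  spanR := by
    intro β w hw hw0 hβ hm w' hw'
    have step : ∀ z ∈ W, B w z ≠ 0 → (β, z) ∈ P := fun z hz hne => by
      have e := flip_move h.alt hP (h.mem z hz) hm 1
      rw [hβ z hz, mul_zero, zero_smul, sub_zero, one_mul] at e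
      have e1 := hP.sub_right e hm
      rw [add_sub_cancel_left] at e1
      simpa [smul_smul, inv_mul_cancel₀ hne] using hP.smul_right (B w z)⁻¹ e1
    by_cases hy1 : B w w' ≠ 0
    · exact step w' hw' hy1
    push Not at hy1
    obtain ⟨z, hz, hwz⟩ := h.pair_ne hw hw0
    have hwz' : B w z ≠ 0 := fun e => hwz (by rw [← LinearMap.IsAlt.neg h.alt, e, neg_zero])
    have e := hP.sub_right (step (w' + z) (add_mem hw' hz) (by rwa [map_add, hy1, zero_add])) (step z hz hwz')
    simpa using e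
  hitL := by
    intro c hc hc0
    obtain ⟨x, hx, hxc⟩ := h.pair_ne hc hc0
    refine ⟨B.flip x, x, hx, fun e => hxc (by simp [e]), h.flip_rad x, h.mem x hx, fun e => hxc ?_⟩
    rw [← LinearMap.IsAlt.neg h.alt, show B c x = 0 from e, neg_zero]
  hitR := fun ν c hc hνc =>
    ⟨B.flip c, c, hc, h.flip_rad c, h.flip_ne hc fun e => hνc (by rw [e, map_zero]), h.mem c hc, hνc⟩

/-! ### Extension -/

/-- A bigger piece of type `SL`. -/
def Grown (P : Set (Module.Dual F V × V)) (W U : Submodule F V) : Prop :=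
  ∃ W' U', SLState P W' U' ∧ W ≤ W' ∧ U' ≤ U ∧ Module.finrank F W + 1 ≤ Module.finrank F W'

theorem sl_extend (hP : Closed P) (h : Base P W U) {b : V} (hb : b ∈ U) {ν : Module.Dual F V}
    (hνW : ∀ x ∈ W, ν x = 0) (hνb : ν b ≠ 0)
    (hμ : ∀ μ : Module.Dual F V, (∀ u ∈ U, μ u = 0) → (μ, b) ∈ P) (hν : ∀ w ∈ W, (ν, w) ∈ P) : Grown P W U := by
  wlog hν1 : ν b = 1 generalizing ν
  · refine this (ν := (ν b)⁻¹ • ν) (fun x hx => by simp [hνW x hx]) (by simp [hνb])
      (fun w hw => hP.smul_left _ (hν w hw)) (by simp [hνb])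
  have hbW : b ∉ W := fun hbW => one_ne_zero (α := F) (by rw [← hν1, hνW b hbW])
  have hsupp : ∀ (μ : Module.Dual F V) (w : V), w ∈ W → (∀ u ∈ U, μ u = 0) → μ w = 0 → (μ, w) ∈ P :=
    fun μ w hw hμU hμw => hP.comm (hν w hw) (hμ μ hμU) hμw (by rw [hν1]; exact one_ne_zero)
  have hcompl : IsCompl (W ⊔ Submodule.span F {b}) (U ⊓ LinearMap.ker ν) := by
    constructor
    · rw [Submodule.disjoint_def]
      intro x hx hxU
      obtain ⟨hxU, hxν⟩ := Submodule.mem_inf.mp hxU
      obtain ⟨w, hw, q, hq, rfl⟩ := Submodule.mem_sup.mp hx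
      obtain ⟨t, rfl⟩ := Submodule.mem_span_singleton.mp hq
      rw [LinearMap.mem_ker, map_add, map_smul, hνW w hw, hν1, zero_add, smul_eq_mul, mul_one] at hxν
      rw [hxν, zero_smul, add_zero] at hxU ⊢
      exact Submodule.disjoint_def.mp h.compl.disjoint w hw hxU
    · refine codisjoint_iff.mpr (eq_top_iff.mpr fun x _ => ?_)
      obtain ⟨a, ha, u, hu, rfl⟩ := decomp h.compl x
      refine Submodule.mem_sup.mpr ⟨a + ν u • b, add_mem (Submodule.mem_sup_left ha)
        (Submodule.mem_sup_right (Submodule.mem_span_singleton.mpr ⟨_, rfl⟩)), u - ν u • b,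
        Submodule.mem_inf.mpr ⟨sub_mem hu (U.smul_mem _ hb), ?_⟩, by abel⟩
      simp [hν1]
  have hrank : Module.finrank F W + 1 ≤ Module.finrank F ↥(W ⊔ Submodule.span F {b}) :=
    Submodule.finrank_lt_finrank_of_lt (lt_of_le_of_ne le_sup_left fun e =>
      hbW (e ▸ Submodule.mem_sup_right (Submodule.mem_span_singleton_self b)))
  refine ⟨_, _, ⟨hcompl, le_trans (by linarith [h.two_le]) hrank, ?_⟩, le_sup_left, inf_le_left, hrank⟩
  intro φ v hv hφU hφv
  obtain ⟨w, hw, q, hq, rfl⟩ := Submodule.mem_sup.mp hv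
  obtain ⟨t, rfl⟩ := Submodule.mem_span_singleton.mp hq
  set s := φ b with hs
  set μ := φ - s • ν with hμdef
  have hμU : ∀ u ∈ U, μ u = 0 := by
    intro u hu
    have h1 := hφU (u - ν u • b) (Submodule.mem_inf.mpr ⟨sub_mem hu (U.smul_mem _ hb), by simp [hν1]⟩)
    rw [map_sub, map_smul, smul_eq_mul, sub_eq_zero] at h1
    simp [hμdef, hs, h1, mul_comm]
  by_cases hw0 : w = 0
  · subst hw0
    by_cases ht : t = 0
    · rw [ht, zero_smul, add_zero]; exact hP.zero_right φ
    rw [zero_add, map_smul, smul_eq_mul, mul_eq_zero] at hφv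
    have hφμ : μ = φ := by rw [hμdef, hs, hφv.resolve_left ht, zero_smul, sub_zero]
    rw [zero_add, ← hφμ]
    exact hP.smul_right t (hμ μ hμU)
  obtain ⟨μ₀, hμ₀, hμ₀w⟩ := exists_dual_one h.compl hw hw0 t
  have hshift : ∀ ψ, (ψ, w) ∈ P → (ψ - ψ b • μ₀, w + t • b) ∈ P := fun ψ hψ => by
    have := hP.conj (hμ μ₀ hμ₀) hψ
    rwa [hμ₀w] at this
  have h1 : μ w + s * t = 0 := by
    rw [map_add, map_smul, smul_eq_mul] at hφv
    simp only [hμdef, LinearMap.sub_apply, LinearMap.smul_apply, hνW w hw, smul_eq_mul, mul_zero, sub_zero]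
    rw [mul_comm]; exact hφv
  have p1 := hshift _ (hsupp (μ + s • μ₀) w hw (fun u hu => by simp [hμU u hu, hμ₀ u hu])
    (by simp [hμ₀w, h1]))
  have p2 := hshift _ (hP.smul_left s (hν w hw))
  convert hP.add_left p1 p2 using 2
  simp [hμdef, hμU b hb, hμ₀ b hb, hν1, hs] <;> module

theorem grow_left (hP : Closed P) (h : Base P W U) {b : V} (hb : b ∈ U) (hb0 : b ≠ 0) {μ : Module.Dual F V}
    (hμ : ∀ u ∈ U, μ u = 0) (hμ0 : μ ≠ 0) (hm : (μ, b) ∈ P) : Grown P W U := by
  have hall := h.spanL hb hμ hμ0 hm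
  obtain ⟨ν, c, hz, hμc, hνb⟩ := hP.partner hm hμ0 hb0
  obtain ⟨cw, hcw, cu, hcu, rfl⟩ := decomp h.compl c
  rw [map_add, hμ cu hcu, add_zero] at hμc
  obtain ⟨α, w, hw, hw0, hαU, hαm, hαc⟩ := h.hitL cw hcw fun e => hμc (by rw [e, map_zero])
  obtain ⟨μ₁, hμ₁, hμ₁w⟩ := exists_dual_one h.compl hw hw0 (ν w / ν b)
  have hz' := hP.conj (hall μ₁ hμ₁) hz
  set ν' := ν - ν b • μ₁ with hν'
  have hν'w : ν' w = 0 := by simp [hν', hμ₁w, mul_div_cancel₀ _ hνb]
  have hν'b : ν' b ≠ 0 := by simp [hν', hμ₁ b hb, hνb]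
  have hm1 := hP.comm hαm hz' hν'w (by simp [hαU cu hcu, hαU b hb, hαc])
  obtain ⟨α', β', e, hα', hβ'⟩ := dual_split h.compl ν'
  have hα'w : α' w = 0 := by rw [e, LinearMap.add_apply, hβ' w hw, add_zero] at hν'w; exact hν'w
  have hm2 : (α', w) ∈ P := hP.comm hm1 (hall α' hα') hα'w hν'b
  have hm3 : (β', w) ∈ P := by simpa [e] using hP.sub_left hm1 hm2
  have hβ'b : β' b ≠ 0 := by rw [e, LinearMap.add_apply, hα' b hb, zero_add] at hν'b; exact hν'b
  exact sl_extend hP h hb hβ' hβ'b hall (h.spanR hw hw0 hβ' hm3)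

theorem grow_right (hP : Closed P) (h : Base P W U) {w : V} (hw : w ∈ W) (hw0 : w ≠ 0) {β : Module.Dual F V}
    (hβ : ∀ x ∈ W, β x = 0) (hβ0 : β ≠ 0) (hm : (β, w) ∈ P) : Grown P W U := by
  have hall := h.spanR hw hw0 hβ hm
  obtain ⟨ν, c, hz, hβc, hνw⟩ := hP.partner hm hβ0 hw0
  obtain ⟨α, w₂, hw₂, hαU, hα0, hαm, hνw₂⟩ := h.hitR ν w hw hνw
  obtain ⟨x, hx, hαx⟩ : ∃ x ∈ W, α x ≠ 0 := by
    by_contra hno; push Not at hno
    exact hα0 (dual_ext h.compl (fun x hx => by simpa using hno x hx) fun x hx => by simpa using hαU x hx)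
  set w₁ := (-(α c) / (β c * α x)) • x with hw₁
  have hw₁W : w₁ ∈ W := W.smul_mem _ hx
  have hz' := hP.conj (hall w₁ hw₁W) hz
  set c' := c + β c • w₁ with hc'
  have hαc' : α c' = 0 := by
    simp [hc', hw₁]
    field_simp
    ring
  have hm1 : (α, c') ∈ P := hP.comm hz' hαm hαc' (by simp [hβ w₂ hw₂, hνw₂])
  obtain ⟨aw, haw, au, hau, e⟩ := decomp h.compl c'
  have hαaw : α aw = 0 := by rw [e, map_add, hαU au hau, add_zero] at hαc'; exact hαc'
  have hβc' : β c' ≠ 0 := by simp [hc', hβ w₁ hw₁W, hβc]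
  have hm2 : (α, aw) ∈ P := hP.comm (hall aw haw) hm1 hαaw hβc'
  have hm3 : (α, au) ∈ P := by simpa [e] using hP.sub_right hm1 hm2
  have hβau : β au ≠ 0 := by rw [e, map_add, hβ aw haw, zero_add] at hβc'; exact hβc'
  exact sl_extend hP h hau hβ hβau (h.spanL hau hαU hα0 hm3) hall

/-- What is allowed outside a piece. -/
def Orth (W U : Submodule F V) (x : Module.Dual F V × V) : Prop := x.2 ∈ U ∧ ∀ w ∈ W, x.1 w = 0

/-- What lives in a piece. -/
def Supp (W U : Submodule F V) (x : Module.Dual F V × V) : Prop := x.2 ∈ W ∧ ∀ u ∈ U, x.1 u = 0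

theorem sl_step (hP : Closed P) (h : SLState P W U) {φ : Module.Dual F V} {v : V} (hm : (φ, v) ∈ P) (hφ : φ ≠ 0)
    (hv : v ≠ 0) (hs : ¬ Supp W U (φ, v)) (ho : ¬ Orth W U (φ, v)) : Grown P W U := by
  obtain ⟨a, ha, b, hb, rfl⟩ := decomp h.compl v
  obtain ⟨α, β, rfl, hα, hβ⟩ := dual_split h.compl φ
  have hb' := h.base hP
  by_cases h1 : α ≠ 0 ∧ b ≠ 0
  · obtain ⟨h1, hb0⟩ := h1
    obtain ⟨w₀, hw₀, hαw₀⟩ : ∃ x ∈ W, α x ≠ 0 := by
      by_contra hno; push Not at hno
      exact h1 (dual_ext h.compl (fun x hx => by simpa using hno x hx) fun x hx => by simpa using hα x hx)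
    obtain ⟨x, hx, hxS⟩ := exists_not_mem (W := W) (S := Submodule.span F {a, w₀})
      (lt_of_le_of_lt (finrank_span_two_le a w₀) (by linarith [h.three_le]))
    have hSW : Submodule.span F {a, w₀} ≤ W := Submodule.span_le.mpr (by
      rintro y (rfl | rfl); exacts [ha, hw₀])
    obtain ⟨μ, hμU, hμS, hμx⟩ := exists_dual h.compl hSW hx hxS
    have hμa : μ a = 0 := hμS a (Submodule.subset_span (by simp))
    have hμw : μ w₀ = 0 := hμS w₀ (Submodule.subset_span (by simp))
    have e := hP.comm hm (h.mem μ w₀ hw₀ hμU hμw) (by simp [hμa, hμU b hb]) (by simp [hβ w₀ hw₀, hαw₀])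
    have e2 := hP.sub_right e (h.mem μ a ha hμU hμa)
    rw [add_sub_cancel_left] at e2
    exact grow_left hP hb' hb hb0 hμU (fun e => by simp [e] at hμx) e2
  by_cases h2 : a ≠ 0 ∧ β ≠ 0
  · obtain ⟨ha0, hβ0⟩ := h2
    obtain ⟨w, hw, hwa, hαw⟩ : ∃ w ∈ W, w ∉ Submodule.span F {a} ∧ α w = 0 := by
      obtain ⟨x, hx, hxa⟩ := exists_not_mem (W := W) (S := Submodule.span F {a})
        (lt_of_le_of_lt (finrank_span_le a) (by linarith [h.three_le]))
      obtain ⟨y, hy, hyS⟩ := exists_not_mem (W := W) (S := Submodule.span F {a, x})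
        (lt_of_le_of_lt (finrank_span_two_le a x) (by linarith [h.three_le]))
      by_cases hαx : α x = 0
      · exact ⟨x, hx, hxa, hαx⟩
      refine ⟨y - (α y / α x) • x, sub_mem hy (W.smul_mem _ hx), fun hmem => hyS ?_, by simp [hαx]⟩
      obtain ⟨t, ht⟩ := Submodule.mem_span_singleton.mp hmem
      exact Submodule.mem_span_pair.mpr ⟨t, α y / α x, by rw [ht]; abel⟩
    have hw0 : w ≠ 0 := fun e => hwa (e ▸ zero_mem _)
    obtain ⟨μ, hμU, hμS, hμa⟩ := exists_dual h.compl ((Submodule.span_singleton_le_iff_mem _ _).mpr hw) ha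
      (fun hmem => hwa (by
        obtain ⟨t, ht⟩ := Submodule.mem_span_singleton.mp hmem
        have ht0 : t ≠ 0 := fun h0 => ha0 (by rw [← ht, h0, zero_smul])
        exact Submodule.mem_span_singleton.mpr ⟨t⁻¹, by rw [← ht, inv_smul_smul₀ ht0]⟩))
    have hμw : μ w = 0 := hμS w (Submodule.mem_span_singleton_self w)
    have e := hP.comm (h.mem μ w hw hμU hμw) hm (by simp [hαw, hβ w hw]) (by simp [hμa, hμU b hb])
    have e2 := hP.sub_left e (h.mem α w hw hα hαw)
    rw [add_sub_cancel_left] at e2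
    exact grow_right hP hb' hw hw0 hβ hβ0 e2
  exfalso
  by_cases hα0 : α = 0
  · subst hα0
    by_cases ha0 : a = 0
    · subst ha0; exact ho ⟨by simpa using hb, fun w hw => by simp [hβ w hw]⟩
    · have : β = 0 := by_contra fun hβ0 => h2 ⟨ha0, hβ0⟩
      exact hφ (by simp [this])
  · have hb0 : b = 0 := by_contra fun hb0 => h1 ⟨hα0, hb0⟩
    subst hb0
    by_cases ha0 : a = 0
    · exact hv (by simp [ha0])
    · have : β = 0 := by_contra fun hβ0 => h2 ⟨ha0, hβ0⟩
      exact hs ⟨by simpa using ha, fun u hu => by simp [hα u hu, this]⟩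

/-- An `Sp` piece with a further transvection inside is of type `SL`. -/
theorem upgrade (hP : Closed P) (h : SpState P W U B) {u w : V} (hu : u ∈ W) (hw : w ∈ W) (hw0 : w ≠ 0)
    (hnot : u ∉ Submodule.span F {w}) (huw : B u w = 0) (hm : (B.flip u, w) ∈ P) : SLState P W U := by
  have hwu : B w u = 0 := by rw [← LinearMap.IsAlt.neg h.alt, huw, neg_zero]
  have hfull : ∀ x ∈ W, B x w = 0 → (B.flip x, w) ∈ P := by
    have step : ∀ z ∈ W, B z w = 0 → B z u ≠ 0 → (B.flip z, w) ∈ P := fun z hz hzw hzu => by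
      have e := flip_move h.alt hP (h.mem z hz) hm 1
      rw [show B w z = 0 by rw [← LinearMap.IsAlt.neg h.alt, hzw, neg_zero], mul_zero, zero_smul, add_zero, one_mul]
        at e
      exact hP.div_left hzu (by simpa using hP.sub_left hm e)
    obtain ⟨z₀, hz₀, hz₀w, hz₀u⟩ : ∃ z ∈ W, B z w = 0 ∧ B z u ≠ 0 := by
      by_contra hno; push Not at hno
      obtain ⟨x, hx, hxw⟩ := h.pair_ne hw hw0
      refine hnot (Submodule.mem_span_singleton.mpr ⟨B x u / B x w, ?_⟩)
      refine sub_eq_zero.mp (h.nondeg _ (sub_mem (W.smul_mem _ hw) hu) fun y hy => ?_)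
      have h1 := hno (y - (B y w / B x w) • x) (sub_mem hy (W.smul_mem _ hx)) (by simp [hxw])
      simp only [map_sub, map_smul, LinearMap.sub_apply, LinearMap.smul_apply, smul_eq_mul, sub_eq_zero] at h1 ⊢
      rw [h1]; ring
    intro x hx hxw
    by_cases hxu : B x u = 0
    · have e := hP.sub_left (step (x + z₀) (add_mem hx hz₀) (by simp [hxw, hz₀w]) (by simp [hxu, hz₀u]))
        (step z₀ hz₀ hz₀w hz₀u)
      simpa using e
    · exact step x hx hxw hxu
  have trans : ∀ z ∈ W, ∀ y ∈ W, (∀ x ∈ W, B x y = 0 → (B.flip x, y) ∈ P) → ∀ c : F,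
      ∀ x ∈ W, B x (y + (c * B y z) • z) = 0 → (B.flip x, y + (c * B y z) • z) ∈ P := by
    intro z hz y hy hfy c x hx hxy
    have hx0 : B (x - (c * B x z) • z) y = 0 := by
      simp only [map_sub, map_smul, LinearMap.sub_apply, LinearMap.smul_apply, smul_eq_mul]
      simp only [map_add, map_smul, smul_eq_mul] at hxy
      rw [show B z y = -B y z from (LinearMap.IsAlt.neg h.alt y z).symm]
      linear_combination hxy
    convert flip_move h.alt hP (h.mem z hz) (hfy _ (sub_mem hx (W.smul_mem _ hz)) hx0) c using 2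
    rw [flip_app, map_sub, map_sub, LinearMap.map_smul, map_smul, h.alt z, smul_zero, sub_zero,
      show B z x = -B x z from (LinearMap.IsAlt.neg h.alt x z).symm, mul_neg]
    module
  have one_step : ∀ y ∈ W, (∀ x ∈ W, B x y = 0 → (B.flip x, y) ∈ P) → ∀ y' ∈ W, B y y' ≠ 0 →
      ∀ x ∈ W, B x y' = 0 → (B.flip x, y') ∈ P := by
    intro y hy hfy y' hy' hne
    have e : y + ((B y (y' - y))⁻¹ * B y (y' - y)) • (y' - y) = y' := by
      rw [inv_mul_cancel₀ (by simpa [h.alt y] using hne), one_smul, add_sub_cancel]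
    have := trans (y' - y) (sub_mem hy' hy) y hy hfy (B y (y' - y))⁻¹
    rwa [e] at this
  have hall : ∀ y ∈ W, y ≠ 0 → ∀ x ∈ W, B x y = 0 → (B.flip x, y) ∈ P := by
    intro y hy hy0
    by_cases hwy : B w y = 0
    · obtain ⟨z₁, hz₁, h1⟩ := h.pair_ne hw hw0
      obtain ⟨z₂, hz₂, h2⟩ := h.pair_ne hy hy0
      obtain ⟨z, hz, hzw, hzy⟩ : ∃ z ∈ W, B z w ≠ 0 ∧ B z y ≠ 0 := by
        by_cases e1 : B z₁ y = 0
        · by_cases e2 : B z₂ w = 0
          · exact ⟨z₁ + z₂, add_mem hz₁ hz₂, by simp [e2, h1], by simp [e1, h2]⟩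
          · exact ⟨z₂, hz₂, e2, h2⟩
        · exact ⟨z₁, hz₁, h1, e1⟩
      exact one_step z hz (one_step w hw hfull z hz (fun e => hzw (by rw [← LinearMap.IsAlt.neg h.alt, e, neg_zero])))
        y hy hzy
    · exact one_step w hw hfull y hy hwy
  have h3 : 3 ≤ Module.finrank F W := by
    obtain ⟨z, hz, hzw⟩ := h.pair_ne hw hw0
    by_contra hlt
    have hli : Submodule.span F {w, u} = W := by
      refine Submodule.eq_of_le_of_finrank_le (Submodule.span_le.mpr (by rintro y (rfl | rfl); exacts [hw, hu])) ?_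
      have hlt' : Submodule.span F {w} < Submodule.span F {w, u} :=
        lt_of_le_of_ne (Submodule.span_mono (by simp)) fun e => hnot (e ▸ Submodule.subset_span (by simp))
      have := Submodule.finrank_lt_finrank_of_lt hlt'
      rw [finrank_span_singleton hw0] at this
      omega
    rw [← hli] at hz
    obtain ⟨s, t, rfl⟩ := Submodule.mem_span_pair.mp hz
    simp [h.alt w, huw] at hzw
  refine ⟨h.compl, h3, fun φ v hv hφ hφv => ?_⟩
  obtain ⟨x, hx, rfl⟩ := h.repr hφ
  by_cases hv0 : v = 0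
  · rw [hv0]; exact hP.zero_right _
  · exact hall v hv hv0 x hx (by rw [flip_app] at hφv; rw [← LinearMap.IsAlt.neg h.alt, hφv, neg_zero])

/-- The result of an extension step of an `Sp` piece. -/
def SpGrown (P : Set (Module.Dual F V × V)) (W U : Submodule F V) : Prop :=
  SLState P W U ∨ Grown P W U ∨
    ∃ W' U' B', SpState P W' U' B' ∧ W ≤ W' ∧ U' ≤ U ∧ Module.finrank F W + 1 ≤ Module.finrank F W'

/-- Moving along an orbit of the transvections of the form. -/
theorem orbit (hP : Closed P) (h : SpState P W U B) {β : Module.Dual F V} {b : V} (hb : b ∈ U) (hβ : ∀ x ∈ W, β x = 0)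
    {a : V} (ha : a ∈ W) (ha0 : a ≠ 0) (hm : (B.flip a + β, a + b) ∈ P) :
    ∀ y ∈ W, y ≠ 0 → (B.flip y + β, y + b) ∈ P := by
  have one_step : ∀ y ∈ W, (B.flip y + β, y + b) ∈ P → ∀ y' ∈ W, B y y' ≠ 0 → (B.flip y' + β, y' + b) ∈ P := by
    intro y hy hmy y' hy' hne
    have hz : y' - y ∈ W := sub_mem hy' hy
    have hne' : B y (y' - y) ≠ 0 := by simpa [h.alt y] using hne
    convert flip_move h.alt hP (h.mem _ hz) hmy (B y (y' - y))⁻¹ using 2
    · rw [LinearMap.add_apply, hβ _ hz, add_zero, flip_app,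
        show B (y' - y) y = -B y (y' - y) from (LinearMap.IsAlt.neg h.alt y (y' - y)).symm, mul_neg,
        inv_mul_cancel₀ hne', map_sub]
      module
    · rw [map_add, LinearMap.add_apply, h.rad b hb, add_zero, inv_mul_cancel₀ hne', one_smul]
      abel
  intro y hy hy0
  by_cases hay : B a y = 0
  · obtain ⟨z₁, hz₁, h1⟩ := h.pair_ne ha ha0
    obtain ⟨z₂, hz₂, h2⟩ := h.pair_ne hy hy0
    obtain ⟨z, hz, hza, hzy⟩ : ∃ z ∈ W, B z a ≠ 0 ∧ B z y ≠ 0 := by
      by_cases e1 : B z₁ y = 0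
      · by_cases e2 : B z₂ a = 0
        · exact ⟨z₁ + z₂, add_mem hz₁ hz₂, by simp [e2, h1], by simp [e1, h2]⟩
        · exact ⟨z₂, hz₂, e2, h2⟩
      · exact ⟨z₁, hz₁, h1, e1⟩
    exact one_step z hz (one_step a ha hm z hz (fun e => hza (by rw [← LinearMap.IsAlt.neg h.alt, e, neg_zero])))
      y hy hzy
  · exact one_step a ha hm y hy hay

/-- First analysis of a pair outside an `Sp` piece. -/
theorem sp_cases (hP : Closed P) (h : SpState P W U B) {φ : Module.Dual F V} {v : V} (hm : (φ, v) ∈ P) (hφ : φ ≠ 0)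
    (hv : v ≠ 0) (hs : ¬ (Supp W U (φ, v) ∧ ∃ c : F, φ = c • B.flip v)) (ho : ¬ Orth W U (φ, v)) :
    SpGrown P W U ∨ ∃ (β : Module.Dual F V) (a b : V) (d : F), a ∈ W ∧ a ≠ 0 ∧ b ∈ U ∧ b ≠ 0 ∧ β ≠ 0 ∧ d ≠ 0 ∧
      (∀ x ∈ W, β x = 0) ∧ (β, b) ∈ P ∧ (B.flip a + β, a + b) ∈ P ∧ v = d • (a + b) ∧ φ = B.flip a + β := by
  obtain ⟨a, ha, b, hb, rfl⟩ := decomp h.compl v
  obtain ⟨α, β, rfl, hα, hβ⟩ := dual_split h.compl φ
  obtain ⟨a', ha', rfl⟩ := h.repr hα
  have hb' := h.base hP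
  by_cases hi : ∃ w ∈ W, B w a' = 0 ∧ B a w ≠ 0
  · left
    obtain ⟨w, hw, hwa', haw⟩ := hi
    have hw0 : w ≠ 0 := fun e => haw (by simp [e])
    have e : (B.flip a' + β, w) ∈ P :=
      hP.comm (h.mem w hw) hm (by simp [hβ w hw, hwa']) (by simp [h.rad b hb, haw])
    by_cases hup : ∃ u ∈ W, B u w = 0 ∧ B u a' ≠ 0
    · obtain ⟨u, hu, huw, hua'⟩ := hup
      have hwu : B w u = 0 := by rw [← LinearMap.IsAlt.neg h.alt, huw, neg_zero]
      have e1 := flip_move h.alt hP (h.mem u hu) e 1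
      rw [hwu, mul_zero, zero_smul, add_zero, one_mul] at e1
      have e2 : (B.flip u, w) ∈ P := hP.div_left hua' (by simpa [hβ u hu] using hP.sub_left e e1)
      refine Or.inl (upgrade hP h hu hw hw0 (fun hmem => hua' ?_) huw e2)
      obtain ⟨t, rfl⟩ := Submodule.mem_span_singleton.mp hmem
      simp [hwa']
    · push Not at hup
      obtain ⟨z, hz, hzw⟩ := h.pair_ne hw hw0
      set t := B z a' / B z w with ht
      have ha't : a' = t • w := by
        refine sub_eq_zero.mp (h.nondeg _ (sub_mem ha' (W.smul_mem _ hw)) fun y hy => ?_)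
        have h1 := hup (y - (B y w / B z w) • z) (sub_mem hy (W.smul_mem _ hz)) (by simp [hzw])
        simp only [map_sub, map_smul, LinearMap.sub_apply, LinearMap.smul_apply, smul_eq_mul, ht] at h1 ⊢
        linear_combination h1
      have e2 : (β, w) ∈ P := by
        have := hP.sub_left e (hP.smul_left t (h.mem w hw))
        rw [ha't, map_smul, add_sub_cancel_left] at this
        exact this
      refine Or.inr (Or.inl (grow_right hP hb' hw hw0 hβ (fun hβ0 => ?_) e2))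
      have h0 := hP.inc hm
      rw [hβ0, add_zero, flip_app, map_add, LinearMap.add_apply, h.rad b hb, add_zero, ha't, map_smul,
        smul_eq_mul, mul_eq_zero] at h0
      exact hφ (by rw [hβ0, add_zero, ha't, h0.resolve_right haw, zero_smul, map_zero])
  by_cases hii : ∃ w ∈ W, B a w = 0 ∧ B w a' ≠ 0
  · left
    obtain ⟨w, hw, haw, hwa'⟩ := hii
    have hw0 : w ≠ 0 := fun e => hwa' (by simp [e])
    have e : (B.flip w, a + b) ∈ P :=
      hP.comm hm (h.mem w hw) (by simp [h.rad b hb, haw]) (by simp [hβ w hw, hwa'])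
    by_cases hup : ∃ u ∈ W, B u w = 0 ∧ B a u ≠ 0
    · obtain ⟨u, hu, huw, hau⟩ := hup
      have e1 := flip_move h.alt hP (h.mem u hu) e 1
      rw [flip_app, huw, mul_zero, zero_smul, sub_zero, one_mul] at e1
      have e2 := hP.sub_right e1 e
      rw [add_sub_cancel_left, map_add, LinearMap.add_apply, h.rad b hb, add_zero] at e2
      have e3 : (B.flip w, u) ∈ P := by simpa [smul_smul, inv_mul_cancel₀ hau] using hP.smul_right (B a u)⁻¹ e2
      have hu0 : u ≠ 0 := fun e => hau (by simp [e])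
      refine Or.inl (upgrade hP h hw hu hu0 (fun hmem => hau ?_)
        (by rw [← LinearMap.IsAlt.neg h.alt, huw, neg_zero]) e3)
      obtain ⟨t, ht⟩ := Submodule.mem_span_singleton.mp hmem
      have ht0 : t ≠ 0 := fun h0 => hw0 (by rw [← ht, h0, zero_smul])
      rw [← ht] at haw
      simpa [ht0] using haw
    · push Not at hup
      obtain ⟨z, hz, hzw⟩ := h.pair_ne hw hw0
      set t := B z a / B z w with ht
      have hat : a = t • w := by
        refine sub_eq_zero.mp (h.nondeg _ (sub_mem ha (W.smul_mem _ hw)) fun y hy => ?_)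
        have h1 := hup (y - (B y w / B z w) • z) (sub_mem hy (W.smul_mem _ hz)) (by simp [hzw])
        simp only [map_sub, map_smul, smul_eq_mul, LinearMap.sub_apply, LinearMap.smul_apply, ht,
          show B a y = -B y a from (LinearMap.IsAlt.neg h.alt y a).symm,
          show B a z = -B z a from (LinearMap.IsAlt.neg h.alt z a).symm] at h1 ⊢
        linear_combination -h1
      have e2 : (B.flip w, b) ∈ P := by
        have := hP.sub_right e (hP.smul_right t (h.mem w hw))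
        rw [← hat, add_sub_cancel_left] at this
        exact this
      refine Or.inr (Or.inl (grow_left hP hb' hb (fun hb0 => ?_) (h.flip_rad w) (h.flip_ne hw hw0) e2))
      have h0 := hP.inc hm
      rw [hb0, add_zero, LinearMap.add_apply, hβ a ha, add_zero, flip_app, hat, map_smul,
        LinearMap.smul_apply, smul_eq_mul, mul_eq_zero] at h0
      exact hv (by rw [hb0, add_zero, hat, h0.resolve_right hwa', zero_smul])
  push Not at hi hii
  have ha0 : a ≠ 0 := by
    rintro rfl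
    refine ho ⟨by simpa using hb, fun w hw => ?_⟩
    have := hii w hw (by simp)
    simp [this, hβ w hw]
  obtain ⟨z, hz, hza⟩ := h.pair_ne ha ha0
  have ha'0 : a' ≠ 0 := fun e => hza (by
    rw [← LinearMap.IsAlt.neg h.alt, hi z hz (by simp [e]), neg_zero])
  obtain ⟨z', hz', hza'⟩ := h.pair_ne ha' ha'0
  set r := B z' a / B z' a' with hr
  have har : a = r • a' := by
    refine sub_eq_zero.mp (h.nondeg _ (sub_mem ha (W.smul_mem _ ha')) fun y hy => ?_)
    have h1 := hi (y - (B y a' / B z' a') • z') (sub_mem hy (W.smul_mem _ hz')) (by simp [hza'])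
    simp only [map_sub, map_smul, smul_eq_mul, LinearMap.sub_apply, LinearMap.smul_apply, hr,
      show B a y = -B y a from (LinearMap.IsAlt.neg h.alt y a).symm,
      show B a z' = -B z' a from (LinearMap.IsAlt.neg h.alt z' a).symm] at h1 ⊢
    linear_combination -h1
  have hr0 : r ≠ 0 := fun e => ha0 (by rw [har, e, zero_smul])
  set b₁ := r⁻¹ • b with hb₁
  have hb₁U : b₁ ∈ U := U.smul_mem _ hb
  have hm1 : (B.flip a' + β, a' + b₁) ∈ P := by
    have := hP.smul_right r⁻¹ hm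
    rwa [smul_add, ← hb₁, har, inv_smul_smul₀ hr0] at this
  have hall := orbit hP h hb₁U hβ ha' ha'0 hm1
  by_cases hb0 : b = 0
  · left
    have e1 : (B.flip a' + β, a) ∈ P := by simpa [hb0] using hm
    have e2 : (B.flip a', a) ∈ P := by rw [har]; exact hP.smul_right r (h.mem a' ha')
    have e := hP.sub_left e1 e2
    rw [add_sub_cancel_left] at e
    have hβ0 : β ≠ 0 := fun hβ0 => hs ⟨⟨by simpa [hb0] using ha, fun u hu => by simp [hβ0, h.rad u hu]⟩, r⁻¹, by
      rw [hb0, hβ0, add_zero, add_zero, har, map_smul, inv_smul_smul₀ hr0]⟩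
    exact Or.inr (Or.inl (grow_right hP hb' ha ha0 hβ hβ0 e))
  by_cases hβ0 : β = 0
  · left
    have e1 : (B.flip a', a + b) ∈ P := by simpa [hβ0] using hm
    have e2 : (B.flip a', a) ∈ P := by rw [har]; exact hP.smul_right r (h.mem a' ha')
    have e' := hP.sub_right e1 e2
    rw [add_sub_cancel_left] at e'
    exact Or.inr (Or.inl (grow_left hP hb' hb hb0 (h.flip_rad a') (h.flip_ne ha' ha'0) e'))
  right
  have hb₁0 : b₁ ≠ 0 := smul_ne_zero (inv_ne_zero hr0) hb0
  refine ⟨β, a', b₁, r, ha', ha'0, hb₁U, hb₁0, hβ0, hr0, hβ, ?_, hm1, ?_, rfl⟩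
  · have h2 := hall (-a') (W.neg_mem ha') (neg_ne_zero.mpr ha'0)
    have h3 := hP.smul_left (-2) (h.mem a' ha')
    have hβb : β b₁ = 0 := by
      have := hP.inc hm1
      simpa [h.alt a', h.rad b₁ hb₁U, hβ a' ha'] using this
    have h4 := hP.prod3 (ψ := (2 : F) • β) (w := b₁) hm1 h2 h3 (by simp [h.alt a', h.rad b₁ hb₁U, hβ a' ha', hβb])
      (by simp [h.alt a', hβ a' ha']) (by simp [h.alt a', h.rad b₁ hb₁U, hβ a' ha', hβb]) (by simp [h.alt a', hβ a' ha'])
      (by simp [h.alt a', h.rad b₁ hb₁U]) (by simp [h.alt a', h.rad b₁ hb₁U]) (by simp [hβb]) (fun u => by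
        simp only [LinearMap.add_apply, map_neg, LinearMap.neg_apply, LinearMap.smul_apply, smul_eq_mul]
        module)
    exact hP.div_left hP.two h4
  · rw [smul_add, hb₁, smul_inv_smul₀ hr0, ← har]

/-- A hyperbolic plane of orthogonal pairs enlarges an `Sp` piece. -/
theorem sp_extend (hP : Closed P) (h : SpState P W U B) {β ν : Module.Dual F V} {a b c : V} (ha : a ∈ W) (ha0 : a ≠ 0)
    (hb : b ∈ U) (hc : c ∈ U) (hβ : ∀ x ∈ W, β x = 0) (hν : ∀ x ∈ W, ν x = 0) (hβc : β c = 1) (hνb : ν b = -1)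
    (hm : (β, b) ∈ P) (hz : (ν, c) ∈ P) (hx : (B.flip a + β, a + b) ∈ P) :
    ∃ W' U' B', SpState P W' U' B' ∧ W ≤ W' ∧ U' ≤ U ∧ Module.finrank F W + 1 ≤ Module.finrank F W' := by
  have hβb := hP.inc hm
  have hνc := hP.inc hz
  let B' : LinearMap.BilinForm F V := B + LinearMap.mk₂ F (fun x y => ν x * β y - β x * ν y)
    (fun x₁ x₂ y => by simp only [map_add]; ring) (fun s x y => by simp only [map_smul, smul_eq_mul]; ring)
    (fun x y₁ y₂ => by simp only [map_add]; ring) (fun s x y => by simp only [map_smul, smul_eq_mul]; ring)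
  have hB' : ∀ x y, B' x y = B x y + (ν x * β y - β x * ν y) := fun x y => rfl
  have hflipW : ∀ y ∈ W, B'.flip y = B.flip y := fun y hy => LinearMap.ext fun x => by
    rw [flip_app, hB', hβ y hy, hν y hy, flip_app]; ring
  have hflipb : B'.flip b = β := LinearMap.ext fun x => by
    rw [flip_app, hB', h.rad_right hb, hβb, hνb]; ring
  have hflipc : B'.flip c = ν := LinearMap.ext fun x => by
    rw [flip_app, hB', h.rad_right hc, hβc, hνc]; ring
  have hBbc : B' b c = -1 := by rw [hB', h.rad b hb, hνb, hβb, hβc]; ring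
  have halt : B'.IsAlt := fun x => by rw [hB', h.alt x]; ring
  set W' := W ⊔ Submodule.span F {b, c} with hW'
  set U' := U ⊓ LinearMap.ker β ⊓ LinearMap.ker ν with hU'
  have hcompl : IsCompl W' U' := by
    constructor
    · rw [Submodule.disjoint_def]
      intro x hx hxU
      obtain ⟨⟨hxU, hxβ⟩, hxν⟩ := hxU
      obtain ⟨w, hw, q, hq, rfl⟩ := Submodule.mem_sup.mp hx
      obtain ⟨s, t, rfl⟩ := Submodule.mem_span_pair.mp hq
      simp [hβ w hw, hβb, hβc] at hxβ
      simp [hν w hw, hνb, hνc] at hxν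
      subst hxβ hxν
      simp only [zero_smul, add_zero] at hxU ⊢
      exact Submodule.disjoint_def.mp h.compl.disjoint w hw hxU
    · refine codisjoint_iff.mpr (eq_top_iff.mpr fun x _ => ?_)
      obtain ⟨a, ha, u, hu, rfl⟩ := decomp h.compl x
      refine Submodule.mem_sup.mpr ⟨a + ((-ν u) • b + β u • c), add_mem (Submodule.mem_sup_left ha)
        (Submodule.mem_sup_right (Submodule.mem_span_pair.mpr ⟨_, _, rfl⟩)), u - ((-ν u) • b + β u • c),
        Submodule.mem_inf.mpr ⟨Submodule.mem_inf.mpr ⟨sub_mem hu (add_mem (U.smul_mem _ hb) (U.smul_mem _ hc)), ?_⟩, ?_⟩,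
        by abel⟩ <;> simp [hβb, hβc, hνb, hνc]
  have hrank : Module.finrank F W + 1 ≤ Module.finrank F W' :=
    Submodule.finrank_lt_finrank_of_lt (lt_of_le_of_ne le_sup_left fun e => by
      have : b ∈ W := e ▸ Submodule.mem_sup_right (Submodule.subset_span (by simp))
      rw [Submodule.disjoint_def.mp h.compl.disjoint b this hb, map_zero] at hνb
      simp at hνb)
  refine ⟨W', U', B', ⟨hcompl, halt, ?_, ?_, le_trans h.two_le (by omega), ?_⟩, le_sup_left,
    inf_le_left.trans inf_le_left, hrank⟩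
  · intro u hu x
    obtain ⟨⟨hu1, hu2⟩, hu3⟩ := hu
    rw [hB', h.rad u hu1, LinearMap.mem_ker.mp hu2, LinearMap.mem_ker.mp hu3]; ring
  · intro x hx hall
    obtain ⟨w, hw, q, hq, rfl⟩ := Submodule.mem_sup.mp hx
    obtain ⟨s, t, rfl⟩ := Submodule.mem_span_pair.mp hq
    have e1 := hall b (Submodule.mem_sup_right (Submodule.subset_span (by simp)))
    have e2 := hall c (Submodule.mem_sup_right (Submodule.subset_span (by simp)))
    simp [hB', h.rad b hb, h.rad c hc, hνb, hβb, hβc, hνc, hβ w hw, hν w hw] at e1 e2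
    subst e1 e2
    simp only [zero_smul, add_zero] at hall ⊢
    refine h.nondeg w hw fun y hy => ?_
    have := hall y (Submodule.mem_sup_left hy)
    rwa [hB', hβ w hw, hν w hw, mul_zero, mul_zero, sub_zero, add_zero] at this
  -- closing up
  have move : ∀ {y z : V}, (B'.flip y, y) ∈ P → (B'.flip z, z) ∈ P → B' y z ≠ 0 → ∀ k : F,
      (B'.flip (y + k • z), y + k • z) ∈ P := by
    intro y z hy hz hne k
    convert flip_move halt hP hz hy (k / B' y z) using 2
    · rw [flip_app, show B' z y = -B' y z from (LinearMap.IsAlt.neg halt y z).symm, mul_neg,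
        div_mul_cancel₀ _ hne, map_add, map_smul]
      module
    · rw [div_mul_cancel₀ _ hne]
  have hscale : ∀ {y : V}, (B'.flip y, y) ∈ P → ∀ k : F, (B'.flip (k • y), k • y) ∈ P := fun {y} hy k => by
    rw [map_smul]; exact hP.smul_left k (hP.smul_right k hy)
  have hPb : (B'.flip b, b) ∈ P := hflipb ▸ hm
  have hPc : (B'.flip c, c) ∈ P := hflipc ▸ hz
  have hQ : ∀ s t : F, (B'.flip (s • b + t • c), s • b + t • c) ∈ P := by
    intro s t
    by_cases hs : s = 0
    · rw [hs, zero_smul, zero_add]; exact hscale hPc t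
    · have := hscale (move hPb hPc (by rw [hBbc]; simp) (t / s)) s
      rwa [smul_add, smul_smul, mul_div_cancel₀ _ hs] at this
  have hx' : ∀ y ∈ W, y ≠ 0 → (B'.flip (y + b), y + b) ∈ P := fun y hy hy0 => by
    rw [map_add, hflipW y hy, hflipb]; exact orbit hP h hb hβ ha ha0 hx y hy hy0
  intro x hx
  obtain ⟨y, hy, q, hq, rfl⟩ := Submodule.mem_sup.mp hx
  obtain ⟨s, t, rfl⟩ := Submodule.mem_span_pair.mp hq
  by_cases hy0 : y = 0
  · rw [hy0, zero_add]; exact hQ s t
  by_cases hst : s = 0 ∧ t = 0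
  · rw [hst.1, hst.2, zero_smul, zero_smul, add_zero, add_zero, hflipW y hy]; exact h.mem y hy
  have hyq : ∀ q, q ∈ Submodule.span F {b, c} → B' y q = 0 := fun q hq => by
    obtain ⟨s, t, rfl⟩ := Submodule.mem_span_pair.mp hq
    rw [hB', hν y hy, hβ y hy, map_add, map_smul, map_smul, h.rad_right hb, h.rad_right hc]; simp
  have hbc : b ∈ Submodule.span F {b, c} := Submodule.subset_span (by simp)
  have hcc : c ∈ Submodule.span F {b, c} := Submodule.subset_span (by simp)
  by_cases ht : t = 0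
  · have hs : s ≠ 0 := fun hs => hst ⟨hs, ht⟩
    have h1 : (B'.flip (y + c), y + c) ∈ P := by
      have := move (hx' y hy hy0) (hQ (-1) 1) (by
        simp [B', hν y hy, hβ y hy, h.rad_right hb, h.rad_right hc, h.rad b hb, h.rad c hc, hνb, hνc, hβb, hβc]) 1
      convert this using 2 <;> [skip; skip] <;> first | rfl | (congr 1; module) | module
    have := move h1 (hQ s (-1)) (by
      simp [B', hν y hy, hβ y hy, h.rad_right hb, h.rad_right hc, h.rad b hb, h.rad c hc, hνb, hνc, hβb, hβc, hs]) 1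
    convert this using 2 <;> first | rfl | (congr 1; rw [ht]; module) | (rw [ht]; module)
  · have := move (hx' y hy hy0) (hQ (s - 1) t) (by
      simp [B', hν y hy, hβ y hy, h.rad_right hb, h.rad_right hc, h.rad b hb, h.rad c hc, hνb, hνc, hβb, hβc, ht]) 1
    convert this using 2 <;> first | rfl | (congr 1; module) | module

theorem sp_step (hP : Closed P) (h : SpState P W U B) {φ : Module.Dual F V} {v : V} (hm : (φ, v) ∈ P) (hφ : φ ≠ 0)
    (hv : v ≠ 0) (hs : ¬ (Supp W U (φ, v) ∧ ∃ c : F, φ = c • B.flip v)) (ho : ¬ Orth W U (φ, v)) :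
    SpGrown P W U := by
  rcases sp_cases hP h hm hφ hv hs ho with hg | ⟨β, a, b, d, ha, ha0, hb, hb0, hβ0, -, hβ, hpure, hx, -, -⟩
  · exact hg
  obtain ⟨ν, c, hz, hβc, hνb⟩ := hP.partner hpure hβ0 hb0
  obtain hg | ⟨ν₁, c₁, hν₁, hc₁U, hz₁, hβc₁, hν₁b⟩ :
      SpGrown P W U ∨ ∃ (ν₁ : Module.Dual F V) (c₁ : V), (∀ x ∈ W, ν₁ x = 0) ∧ c₁ ∈ U ∧ (ν₁, c₁) ∈ P ∧
        β c₁ ≠ 0 ∧ ν₁ b ≠ 0 := by
    by_cases hoz : Orth W U (ν, c)
    · exact Or.inr ⟨ν, c, hoz.2, hoz.1, hz, hβc, hνb⟩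
    have hνn : ν ≠ 0 := fun e => hνb (by simp [e])
    have hcn : c ≠ 0 := fun e => hβc (by simp [e])
    have hsz : ¬ (Supp W U (ν, c) ∧ ∃ k : F, ν = k • B.flip c) := fun hsz => hβc (hβ c hsz.1.1)
    rcases sp_cases hP h hz hνn hcn hsz hoz with hg | ⟨β', a', b', d, ha', -, hb', -, -, hd, hβ', hp, -, ec, eν⟩
    · exact Or.inl hg
    · refine Or.inr ⟨β', b', hβ', hb', hp, fun e => hβc ?_, fun e => hνb ?_⟩
      · rw [ec, map_smul, map_add, hβ a' ha', e, add_zero, smul_zero]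
      · rw [eν, LinearMap.add_apply, h.flip_rad _ b hb, e, add_zero]
  · exact hg
  refine Or.inr (Or.inr ?_)
  have hz₂ : (-(ν₁ b)⁻¹ • ν₁, (β c₁)⁻¹ • c₁) ∈ P := hP.smul_left _ (hP.smul_right _ hz₁)
  exact sp_extend hP h ha ha0 hb (U.smul_mem _ hc₁U) hβ (fun x hx => by simp [hν₁ x hx]) (by simp [hβc₁])
    (by simp [hν₁b]) hpure hz₂ hx

end Cfsg.Agent.Lib.Transv.Engine
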