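import Cfsg.Agent.Lib.Transv.Basic

/-!
# Families of transvection groups
-/

set_option autoImplicit false

namespace Cfsg.Agent.Lib.Transv

open Cfsg
open scoped commutatorElement

variable {F : Type*} [Field F] {V : Type*} [AddCommGroup V] [Module F V] {G : Type*} [Group G]

/-- A set of incident pairs giving transvection groups inside a group acting on `V`. -/
structure Incidences (ι : G →* (V ≃ₗ[F] V)) (P : Set (Module.Dual F V × V)) : Prop where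
  inj : Function.Injective ι
  incident : ∀ x ∈ P, x.1 x.2 = 0
  left_ne : ∀ x ∈ P, x.1 ≠ 0
  right_ne : ∀ x ∈ P, x.2 ≠ 0
  le_range : ∀ x ∈ P, ∀ h : x.1 x.2 = 0, trG h ≤ ι.range
  conj : ∀ x ∈ P, ∀ g : G, ((x.1 ∘ₗ ((ι g).symm : V →ₗ[F] V)), ι g x.2) ∈ P
  comm : ∀ x ∈ P, ∀ y ∈ P, x.1 y.2 ≠ 0 → y.1 x.2 = 0 → (y.1, x.2) ∈ P
  comm' : ∀ x ∈ P, ∀ y ∈ P, x.1 y.2 = 0 → y.1 x.2 ≠ 0 → (x.1, y.2) ∈ P

/-- The family of root groups. -/
def rootSetOf (ι : G →* (V ≃ₗ[F] V)) (P : Set (Module.Dual F V × V)) : Set (Subgroup G) :=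
  {A | ∃ x ∈ P, ∃ h : x.1 x.2 = 0, A = rootG ι h}

variable {ι : G →* (V ≃ₗ[F] V)} {P : Set (Module.Dual F V × V)}

theorem Incidences.mem (hP : Incidences ι P) {x : Module.Dual F V × V} (hx : x ∈ P) :
    rootG ι (hP.incident x hx) ∈ rootSetOf ι P := ⟨x, hx, hP.incident x hx, rfl⟩

theorem comm_case_symm {S : Set (Subgroup G)} {A B : Subgroup G} (h : RootCommutatorCase S A B) :
    RootCommutatorCase S B A := by
  obtain ⟨h1, h2, h3, h4⟩ := h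
  refine ⟨Subgroup.commutator_comm A B ▸ h1, fun c hc x hx => h2 c (Subgroup.commutator_comm A B ▸ hc) x
    (sup_comm A B ▸ hx), fun b hb hb1 => ?_, fun a ha ha1 => ?_⟩
  · rw [Subgroup.commutator_comm, ← h4 b hb hb1]
    refine le_antisymm ?_ ?_ <;> refine (Subgroup.closure_le _).mpr ?_ <;> rintro _ ⟨a, ha, rfl⟩
    · simp only [SetLike.mem_coe]
      rw [show b * a * b⁻¹ * a⁻¹ = (a * b * a⁻¹ * b⁻¹)⁻¹ by group]
      exact inv_mem (Subgroup.subset_closure ⟨a, ha, rfl⟩)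
    · simp only [SetLike.mem_coe]
      rw [show a * b * a⁻¹ * b⁻¹ = (b * a * b⁻¹ * a⁻¹)⁻¹ by group]
      exact inv_mem (Subgroup.subset_closure ⟨a, ha, rfl⟩)
  · rw [Subgroup.commutator_comm, ← h3 a ha ha1]
    refine le_antisymm ?_ ?_ <;> refine (Subgroup.closure_le _).mpr ?_ <;> rintro _ ⟨b, hb, rfl⟩
    · simp only [SetLike.mem_coe]
      rw [show b * a * b⁻¹ * a⁻¹ = (a * b * a⁻¹ * b⁻¹)⁻¹ by group]
      exact inv_mem (Subgroup.subset_closure ⟨b, hb, rfl⟩)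
    · simp only [SetLike.mem_coe]
      rw [show a * b * a⁻¹ * b⁻¹ = (b * a * b⁻¹ * a⁻¹)⁻¹ by group]
      exact inv_mem (Subgroup.subset_closure ⟨b, hb, rfl⟩)

theorem Incidences.cases (hP : Incidences ι P) {x y : Module.Dual F V × V} (hx : x ∈ P) (hy : y ∈ P) :
    (⁅rootG ι (hP.incident x hx), rootG ι (hP.incident y hy)⁆ = ⊥ ∧ x.1 y.2 = 0 ∧ y.1 x.2 = 0) ∨
      (IsRankOnePair (rootG ι (hP.incident x hx)) (rootG ι (hP.incident y hy)) ∧
        IsPSL2PairOver F (rootG ι (hP.incident x hx)) (rootG ι (hP.incident y hy)) ∧ x.1 y.2 ≠ 0 ∧ y.1 x.2 ≠ 0) ∨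
      (RootCommutatorCase (rootSetOf ι P) (rootG ι (hP.incident x hx)) (rootG ι (hP.incident y hy)) ∧
        ¬ IsRankOnePair (rootG ι (hP.incident x hx)) (rootG ι (hP.incident y hy))) := by
  have hxr := hP.le_range x hx (hP.incident x hx)
  have hyr := hP.le_range y hy (hP.incident y hy)
  by_cases h1 : x.1 y.2 = 0 <;> by_cases h2 : y.1 x.2 = 0
  · exact Or.inl ⟨rootG_comm hP.inj h1 h2, h1, h2⟩
  · refine Or.inr (Or.inr ⟨comm_case_symm ?_, fun h =>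
      rootG_not_pair hP.inj hyr hxr (hP.left_ne y hy) (hP.right_ne y hy) h1 (RankOnePair_symm h)⟩)
    obtain ⟨e1, e2, e3, e4⟩ := rootG_commutator hP.inj hyr hxr h2 h1
    exact ⟨e1 ▸ ⟨_, hP.comm' x hx y hy h1 h2, h1, rfl⟩, e2, e3, e4⟩
  · refine Or.inr (Or.inr ⟨?_, rootG_not_pair hP.inj hxr hyr (hP.left_ne x hx) (hP.right_ne x hx) h2⟩)
    obtain ⟨e1, e2, e3, e4⟩ := rootG_commutator hP.inj hxr hyr h1 h2
    exact ⟨e1 ▸ ⟨_, hP.comm x hx y hy h1 h2, h2, rfl⟩, e2, e3, e4⟩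
  · exact Or.inr (Or.inl ⟨(rootG_pair hP.inj hxr hyr h1 h2).1, (rootG_pair hP.inj hxr hyr h1 h2).2, h1, h2⟩)

theorem Incidences.kRootSet (hP : Incidences ι P) (hgen : (⨆ A ∈ rootSetOf ι P, A) = ⊤) :
    IsKRootSubgroupSet F (rootSetOf ι P) := by
  refine ⟨⟨?_, ?_, hgen, ?_, ?_⟩, ?_⟩
  · rintro _ ⟨x, hx, h, rfl⟩
    exact rootG_isMulCommutative hP.inj
  · rintro _ ⟨x, hx, h, rfl⟩
    exact rootG_ne_bot (hP.le_range x hx h) (hP.left_ne x hx) (hP.right_ne x hx)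
  · rintro _ ⟨x, hx, h, rfl⟩ g
    exact ⟨_, hP.conj x hx g, _, rootG_conj g⟩
  · rintro _ ⟨x, hx, h, rfl⟩ _ ⟨y, hy, h', rfl⟩
    rcases hP.cases hx hy with h | h | h
    · exact Or.inl h.1
    · exact Or.inr (Or.inl h.1)
    · exact Or.inr (Or.inr h.1)
  · rintro _ ⟨x, hx, h, rfl⟩ _ ⟨y, hy, h', rfl⟩ hp
    rcases hP.cases hx hy with h1 | h1 | h1
    · exfalso
      obtain ⟨a, ha, ha1⟩ : ∃ a ∈ rootG ι h, a ≠ 1 := by
        by_contra hno; push Not at hno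
        exact rootG_ne_bot (hP.le_range x hx h) (hP.left_ne x hx) (hP.right_ne x hx)
          ((Subgroup.eq_bot_iff_forall _).mpr hno)
      exact ha1 (Cfsg.Agent.Lib.RankOne.eq_one_of_normalizes hp ha
        (Cfsg.Agent.Lib.RankOne.conjBy_eq_self_of_commute fun b hb =>
          Cfsg.Agent.Lib.RankOne.commutator_eq_bot_iff.mp h1.1 a ha b hb))
    · exact h1.2.1
    · exact absurd hp h1.2

/-- A family any two members of which have a common opposite is connected. -/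
theorem Incidences.connected (hP : Incidences ι P)
    (h : ∀ x ∈ P, ∀ y ∈ P, ∃ z ∈ P, x.1 z.2 ≠ 0 ∧ z.1 x.2 ≠ 0 ∧ y.1 z.2 ≠ 0 ∧ z.1 y.2 ≠ 0) :
    IsConnectedFamily (FAdj (rootSetOf ι P)) (rootSetOf ι P) := by
  rintro _ ⟨x, hx, hx0, rfl⟩ _ ⟨y, hy, hy0, rfl⟩
  obtain ⟨z, hz, a, b, c, d⟩ := h x hx y hy
  refine (Relation.ReflTransGen.single ⟨hP.mem hx, hP.mem hz, ?_⟩).tail ⟨hP.mem hz, hP.mem hy, ?_⟩
  · exact (rootG_pair hP.inj (hP.le_range z hz _) (hP.le_range y hy _) d c).1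
  · exact (rootG_pair hP.inj (hP.le_range x hx _) (hP.le_range z hz _) a b).1

theorem Incidences.rootClass (hP : Incidences ι P) (hgen : (⨆ A ∈ rootSetOf ι P, A) = ⊤)
    (hc : IsConnectedFamily (FAdj (rootSetOf ι P)) (rootSetOf ι P)) (hne : P.Nonempty) :
    IsRootSubgroupClass (rootSetOf ι P) :=
  ⟨(hP.kRootSet hgen).1, ⟨_, hP.mem hne.some_mem⟩, fun _ hA _ hB => conj_of_connected hc hA hB⟩

/-- The union of two proper subspaces is not everything. -/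
theorem exists_both_ne {W : Type*} [AddCommGroup W] [Module F W] {f g : Module.Dual F W} (hf : f ≠ 0) (hg : g ≠ 0) :
    ∃ u, f u ≠ 0 ∧ g u ≠ 0 := by
  obtain ⟨a, ha⟩ := DFunLike.ne_iff.mp hf
  obtain ⟨b, hb⟩ := DFunLike.ne_iff.mp hg
  simp only [LinearMap.zero_apply] at ha hb
  by_cases h1 : g a = 0
  · by_cases h2 : f b = 0
    · exact ⟨a + b, by simpa [h2] using ha, by simpa [h1] using hb⟩
    · exact ⟨b, h2, hb⟩
  · exact ⟨a, ha, h1⟩

end Cfsg.Agent.Lib.Transv
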