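import Cfsg.Agent.Lib.Transv.Pieces
import Cfsg.Agent.Lib.Transv.Basic
import Cfsg.Agent.Lib.Invol.BaerSuzuki
import Cfsg.Agent.Lib.Fusion.Parts
import Cfsg.Agent.Lib.Linear.SymplecticGroup
import Cfsg.Agent.Lib.Linear.SLBasic

/-!
# Groups generated by transvections over a prime field of odd order
-/

set_option autoImplicit false

namespace Cfsg.Agent.Lib.Transv

variable {p : ℕ} [Fact p.Prime] {V : Type*} [AddCommGroup V] [Module (ZMod p) V]

/-- The incident pairs whose transvection lies in a group. -/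
def pairsOf (H : Subgroup (V ≃ₗ[ZMod p] V)) : Set (Module.Dual (ZMod p) V × V) :=
  {x | ∃ h : x.1 x.2 = 0, tre h 1 ∈ H}

theorem mem_pairsOf {H : Subgroup (V ≃ₗ[ZMod p] V)} {x : Module.Dual (ZMod p) V × V} (h0 : x.1 x.2 = 0)
    {g : V ≃ₗ[ZMod p] V} (hg : g ∈ H) (he : ∀ y, g y = y + x.1 y • x.2) : x ∈ pairsOf H :=
  ⟨h0, by convert hg; exact LinearEquiv.ext fun y => by rw [tre_apply, one_mul, he]⟩

theorem tre_mul {φ : Module.Dual (ZMod p) V} {v : V} (hv : φ v = 0) (c d : ZMod p) :
    tre hv c * tre hv d = tre hv (c + d) :=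
  LinearEquiv.ext fun x => tr_apply_apply hv (fun _ => rfl) (fun _ => rfl) x

theorem tre_pow {φ : Module.Dual (ZMod p) V} {v : V} (hv : φ v = 0) (c : ZMod p) (k : ℕ) :
    tre hv c ^ k = tre hv (k * c) := by
  induction k with
  | zero => exact LinearEquiv.ext fun x => by simp [tre_apply]
  | succ k ih => rw [pow_succ, ih, tre_mul, Nat.cast_succ, add_mul, one_mul]

/-- A unipotent map of degree three has order dividing `p`. -/
theorem pow_prime_of_flag (hp : p ≠ 2) {S₁ S₂ : Submodule (ZMod p) V} (h : V ≃ₗ[ZMod p] V) (h0 : ∀ x, h x - x ∈ S₂)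
    (h2 : ∀ x ∈ S₂, h x - x ∈ S₁) (h1 : ∀ x ∈ S₁, h x = x) : h ^ p = 1 := by
  have key : ∀ (k : ℕ) (x : V), (h ^ k) x =
      x + (k : ZMod p) • (h x - x) + (k.choose 2 : ZMod p) • (h (h x - x) - (h x - x)) := by
    intro k
    induction k with
    | zero => intro x; simp
    | succ k ih =>
      intro x
      have e : h (h (h x - x) - (h x - x)) = h (h x - x) - (h x - x) := h1 _ (h2 _ (h0 x))
      rw [pow_succ', LinearEquiv.mul_apply, ih, map_add, map_add, map_smul, map_smul, e, Nat.choose_succ_succ,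
        Nat.choose_one_right]
      push_cast
      module
  refine LinearEquiv.ext fun x => ?_
  rw [key, LinearEquiv.coe_one, id_eq, ZMod.natCast_self, zero_smul, add_zero,
    (ZMod.natCast_eq_zero_iff _ _).mpr ((Fact.out : p.Prime).dvd_choose_self (by norm_num)
      (lt_of_le_of_ne (Fact.out : p.Prime).two_le (Ne.symm hp))), zero_smul, add_zero]

/-- The stabiliser of a flag acting trivially on its factors. -/
def flagGroup (S₁ S₂ : Submodule (ZMod p) V) (h12 : S₁ ≤ S₂) : Subgroup (V ≃ₗ[ZMod p] V) where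
  carrier := {h | (∀ x, h x - x ∈ S₂) ∧ (∀ x ∈ S₂, h x - x ∈ S₁) ∧ ∀ x ∈ S₁, h x = x}
  one_mem' := ⟨fun x => by simp, fun x _ => by simp, fun x _ => rfl⟩
  mul_mem' := by
    rintro g h ⟨g0, g2, g1⟩ ⟨h0, h2, h1⟩
    have e : ∀ x, (g * h) x - x = (g (h x) - h x) + (h x - x) := fun x => by
      rw [LinearEquiv.mul_apply]; abel
    refine ⟨fun x => e x ▸ add_mem (g0 _) (h0 x), fun x hx => e x ▸ add_mem (g2 _ ?_) (h2 x hx),
      fun x hx => by rw [LinearEquiv.mul_apply, h1 x hx, g1 x hx]⟩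
    have := add_mem (h0 x) hx
    rwa [sub_add_cancel] at this
  inv_mem' := by
    rintro g ⟨g0, g2, g1⟩
    have e : ∀ x, g⁻¹ x - x = -(g (g⁻¹ x) - g⁻¹ x) := fun x => by
      rw [show g (g⁻¹ x) = x from g.apply_symm_apply x]; abel
    refine ⟨fun x => e x ▸ neg_mem (g0 _), fun x hx => e x ▸ neg_mem (g2 _ ?_), fun x hx => ?_⟩
    · have := sub_mem hx (g0 (g⁻¹ x))
      rwa [show g (g⁻¹ x) = x from g.apply_symm_apply x, sub_sub_cancel] at this
    · exact g.injective ((g.apply_symm_apply x).trans (g1 x hx).symm)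

/-- Two transvections of which one fixes the centre of the other generate a `p`-group. -/
theorem isPGroup_pair (hp : p ≠ 2) {φ ψ : Module.Dual (ZMod p) V} {v w : V} (hv : φ v = 0) (hw : ψ w = 0)
    (h : ψ v = 0) {G : Type*} [Group G] (f : G →* (V ≃ₗ[ZMod p] V)) (hf : Function.Injective f) {a b : G}
    (ha : f a = tre hv 1) (hb : f b = tre hw 1) : IsPGroup p ↥(Subgroup.closure {a, b}) := by
  have h12 : Submodule.span (ZMod p) {v} ≤ Submodule.span (ZMod p) {v, w} := Submodule.span_mono (by simp)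
  have hle : Subgroup.closure {a, b} ≤ (flagGroup _ _ h12).comap f := by
    rw [Subgroup.closure_le]
    rintro x (rfl | rfl)
    · refine Subgroup.mem_comap.mpr (ha ▸ ⟨fun y => ?_, fun y _ => ?_, fun y hy => ?_⟩)
      · rw [tre_apply, add_sub_cancel_left]
        exact Submodule.smul_mem _ _ (Submodule.subset_span (by simp))
      · rw [tre_apply, add_sub_cancel_left]
        exact Submodule.smul_mem _ _ (Submodule.mem_span_singleton_self v)
      · obtain ⟨c, rfl⟩ := Submodule.mem_span_singleton.mp hy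
        simp [tre_apply, hv]
    · refine Subgroup.mem_comap.mpr (hb ▸ ⟨fun y => ?_, fun y hy => ?_, fun y hy => ?_⟩)
      · rw [tre_apply, add_sub_cancel_left]
        exact Submodule.smul_mem _ _ (Submodule.subset_span (by simp))
      · obtain ⟨c, d, rfl⟩ := Submodule.mem_span_pair.mp hy
        simp [tre_apply, h, hw]
      · obtain ⟨c, rfl⟩ := Submodule.mem_span_singleton.mp hy
        simp [tre_apply, h]
  intro x
  obtain ⟨x0, x2, x1⟩ := hle x.2
  exact ⟨1, Subtype.ext (hf (by rw [pow_one, SubmonoidClass.coe_pow, map_pow, pow_prime_of_flag hp _ x0 x2 x1,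
    OneMemClass.coe_one, map_one]))⟩

section Closure

variable [Finite V] (H : Subgroup (V ≃ₗ[ZMod p] V))

theorem closed_pairsOf (hp : p ≠ 2) (hOp : Cfsg.pCore p ↥H = ⊥) : Engine.Closed (pairsOf H) := by
  have : Finite (V ≃ₗ[ZMod p] V) := Finite.of_injective _ DFunLike.coe_injective
  refine ⟨?_, fun h => h.1, fun v => mem_pairsOf rfl (one_mem H) fun y => by simp,
    fun φ => mem_pairsOf (map_zero φ) (one_mem H) fun y => by simp, ?_, ?_, ?_, ?_, ?_⟩
  · rw [show (2 : ZMod p) = ((2 : ℕ) : ZMod p) from rfl, Ne, ZMod.natCast_eq_zero_iff]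
    exact fun h => hp ((Nat.prime_dvd_prime_iff_eq Fact.out Nat.prime_two).mp h)
  · rintro φ v c ⟨h, hm⟩
    refine mem_pairsOf (by simp [h]) (pow_mem hm c.val) fun y => ?_
    rw [tre_pow, tre_apply, ZMod.natCast_zmod_val, mul_one, LinearMap.smul_apply, smul_eq_mul]
  · rintro φ v c ⟨h, hm⟩
    refine mem_pairsOf (by simp [h]) (pow_mem hm c.val) fun y => ?_
    rw [tre_pow, tre_apply, ZMod.natCast_zmod_val, mul_one, smul_smul, mul_comm]
  · rintro φ ψ v w ⟨hv, hm⟩ ⟨hw, hm'⟩
    refine mem_pairsOf ?_ (mul_mem (mul_mem hm hm') (inv_mem hm)) fun y => ?_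
    · simp only [LinearMap.sub_apply, LinearMap.smul_apply, map_add, map_smul, smul_eq_mul, hv, hw] at *
      ring
    · have e : (tre hv (1 : ZMod p))⁻¹ y = y - φ y • v := by
        refine (tre hv 1).injective (((tre hv 1).apply_symm_apply y).trans ?_)
        simp [tre_apply, hv]
      rw [LinearEquiv.mul_apply, LinearEquiv.mul_apply, e]
      simp only [tre_apply, map_add, map_sub, map_smul, hv, one_mul, LinearMap.sub_apply, LinearMap.smul_apply,
        smul_eq_mul]
      module
  · rintro φ₁ φ₂ φ₃ ψ v₁ v₂ v₃ w ⟨h₁, m₁⟩ ⟨h₂, m₂⟩ ⟨h₃, m₃⟩ a12 a13 a21 a23 a31 a32 hψ he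
    refine mem_pairsOf hψ (mul_mem (mul_mem m₁ m₂) m₃) fun y => ?_
    rw [← he y, LinearEquiv.mul_apply, LinearEquiv.mul_apply]
    simp only [tre_apply, map_add, map_smul, a12, a13, a23, smul_zero, add_zero, one_mul]
    module
  · rintro φ v ⟨hv, hm⟩ hφ hv0
    by_contra hno
    push Not at hno
    let t : H := ⟨tre hv 1, hm⟩
    have hX : IsPGroup p ↥(Subgroup.zpowers t) := by
      have := isPGroup_pair hp hv hv hv H.subtype H.subtype_injective (a := t) (b := t) rfl rfl
      rwa [Set.pair_eq_singleton, ← Subgroup.zpowers_eq_closure] at this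
    obtain ⟨N, hN, hNp, htN⟩ := Cfsg.Lib.Invol.baerSuzuki (Subgroup.zpowers t) hX fun g => by
      rw [MonoidHom.map_zpowers, Subgroup.zpowers_eq_closure, Subgroup.zpowers_eq_closure, ← Subgroup.closure_union,
        Set.singleton_union]
      set ψ := φ ∘ₗ ((g : V ≃ₗ[ZMod p] V).symm : V →ₗ[ZMod p] V) with hψdef
      set w := (g : V ≃ₗ[ZMod p] V) v with hwdef
      have hw : ψ w = 0 := by simp [hψdef, hwdef, hv]
      have hb : H.subtype ((MulAut.conj g).toMonoidHom t) = tre hw 1 := by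
        refine LinearEquiv.ext fun y => ?_
        show (g : V ≃ₗ[ZMod p] V) (tre hv 1 ((g : V ≃ₗ[ZMod p] V).symm y)) = _
        rw [tre_apply, map_add, map_smul, LinearEquiv.apply_symm_apply]
        rfl
      have hψ : (ψ, w) ∈ pairsOf H := by
        refine mem_pairsOf hw (mul_mem (mul_mem g.2 hm) (inv_mem g.2)) fun y => ?_
        have := LinearEquiv.congr_fun hb y
        rwa [tre_apply, one_mul] at this
      by_cases h : ψ v = 0
      · exact isPGroup_pair hp hv hw h H.subtype H.subtype_injective rfl hb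
      · rw [Set.pair_comm]
        exact isPGroup_pair hp hw hv (by_contra fun hc => h (hno _ _ hψ hc)) H.subtype H.subtype_injective hb rfl
    have h1 : t ∈ (⊥ : Subgroup H) := hOp ▸ Cfsg.Lib.Fusion.le_pCore hN hNp (htN (Subgroup.mem_zpowers t))
    obtain ⟨u, hu⟩ := DFunLike.ne_iff.mp hφ
    exact one_ne_zero ((tre_one hv hu hv0).mp (congrArg Subtype.val (Subgroup.mem_bot.mp h1)))

/-- An element of order `p` fixing a hyperplane is a transvection. -/
theorem exists_pair_of_transvection {t : V ≃ₗ[ZMod p] V} (ho : orderOf t = p)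
    (hk : Module.finrank (ZMod p) ↥(LinearMap.ker ((t : V →ₗ[ZMod p] V) - LinearMap.id)) + 1 =
      Module.finrank (ZMod p) V) :
    ∃ (φ : Module.Dual (ZMod p) V) (v : V) (h : φ v = 0), φ ≠ 0 ∧ v ≠ 0 ∧ t = tre h 1 := by
  set D := (t : V →ₗ[ZMod p] V) - LinearMap.id with hD
  have hr : Module.finrank (ZMod p) ↥(LinearMap.range D) = 1 := by
    have := LinearMap.finrank_range_add_finrank_ker D
    omega
  obtain ⟨⟨v, hvm⟩, hv0, hv⟩ := finrank_eq_one_iff'.mp hr
  have hv0' : v ≠ 0 := fun e => hv0 (Subtype.ext e)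
  obtain ⟨f, hf⟩ := Module.Projective.exists_dual_ne_zero (ZMod p) hv0'
  set φ := (f v)⁻¹ • (f ∘ₗ D) with hφdef
  have ht : ∀ x, t x = x + φ x • v := by
    intro x
    obtain ⟨c, hc⟩ := hv ⟨D x, x, rfl⟩
    have hc' : c • v = D x := congrArg Subtype.val hc
    have : φ x = c := by
      rw [hφdef, LinearMap.smul_apply, LinearMap.comp_apply, ← hc', map_smul, smul_eq_mul, smul_eq_mul,
        mul_left_comm, inv_mul_cancel₀ hf, mul_one]
    rw [this, hc', hD, LinearMap.sub_apply, LinearMap.id_apply, LinearEquiv.coe_coe]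
    abel
  have hpow : ∀ k : ℕ, (t ^ k) v = (1 + φ v) ^ k • v := by
    intro k
    induction k with
    | zero => simp
    | succ k ih => rw [pow_succ', LinearEquiv.mul_apply, ih, map_smul, ht]; module
  have hφv : φ v = 0 := by
    have h1 := hpow p
    rw [ZMod.pow_card, orderOf_dvd_iff_pow_eq_one.mp (dvd_of_eq ho)] at h1
    have h2 : (1 : ZMod p) • v = (1 + φ v) • v := (one_smul _ v).trans h1
    simpa using (smul_left_injective _ hv0' h2).symm
  refine ⟨φ, v, hφv, fun e => ?_, hv0', LinearEquiv.ext fun x => by rw [tre_apply, one_mul, ht]⟩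
  have : t = 1 := LinearEquiv.ext fun x => by rw [ht, e]; simp
  rw [this, orderOf_one] at ho
  exact (Fact.out : p.Prime).one_lt.ne ho

end Closure

/-! ### The factor of a piece -/

/-- Maps living in a piece. -/
def inPiece (W U : Submodule (ZMod p) V) : Subgroup (V ≃ₗ[ZMod p] V) where
  carrier := {h | (∀ u ∈ U, h u = u) ∧ ∀ x, h x - x ∈ W}
  one_mem' := ⟨fun u _ => rfl, fun x => by simp⟩
  mul_mem' := by
    rintro g h ⟨g1, g2⟩ ⟨h1, h2⟩
    refine ⟨fun u hu => by rw [LinearEquiv.mul_apply, h1 u hu, g1 u hu], fun x => ?_⟩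
    have := add_mem (g2 (h x)) (h2 x)
    rwa [sub_add_sub_cancel] at this
  inv_mem' := by
    rintro g ⟨g1, g2⟩
    refine ⟨fun u hu => g.injective ((g.apply_symm_apply u).trans (g1 u hu).symm), fun x => ?_⟩
    have := neg_mem (g2 (g⁻¹ x))
    rwa [neg_sub, show g (g⁻¹ x) = x from g.apply_symm_apply x] at this

theorem inPiece_map {W U : Submodule (ZMod p) V} {h : V ≃ₗ[ZMod p] V} (hh : h ∈ inPiece W U) {x : V} (hx : x ∈ W) :
    h x ∈ W := by simpa using add_mem (hh.2 x) hx

/-- The restriction to a piece. -/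
def restr (W U : Submodule (ZMod p) V) (K : Subgroup (V ≃ₗ[ZMod p] V)) (hK : K ≤ inPiece W U) :
    K →* (W ≃ₗ[ZMod p] W) where
  toFun h :=
    { toFun := fun x => ⟨(h : V ≃ₗ[ZMod p] V) x, inPiece_map (hK h.2) x.2⟩
      map_add' := fun x y => Subtype.ext (map_add _ _ _)
      map_smul' := fun c x => Subtype.ext (map_smul _ _ _)
      invFun := fun x => ⟨(h : V ≃ₗ[ZMod p] V)⁻¹ x, inPiece_map (inv_mem (hK h.2)) x.2⟩
      left_inv := fun x => Subtype.ext ((h : V ≃ₗ[ZMod p] V).symm_apply_apply x)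
      right_inv := fun x => Subtype.ext ((h : V ≃ₗ[ZMod p] V).apply_symm_apply x) }
  map_one' := LinearEquiv.ext fun _ => Subtype.ext rfl
  map_mul' _ _ := LinearEquiv.ext fun _ => Subtype.ext rfl

theorem restr_apply (W U : Submodule (ZMod p) V) (K : Subgroup (V ≃ₗ[ZMod p] V)) (hK : K ≤ inPiece W U) (h : K)
    (x : W) : (restr W U K hK h x : V) = (h : V ≃ₗ[ZMod p] V) x := rfl

/-- The generators of the factor. -/
def pieceGens (P : Set (Module.Dual (ZMod p) V × V)) (W U : Submodule (ZMod p) V) : Set (V ≃ₗ[ZMod p] V) :=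
  {g | ∃ x ∈ P, Engine.Supp W U x ∧ ∀ y, g y = y + x.1 y • x.2}

/-- The factor. -/
abbrev pieceGroup (P : Set (Module.Dual (ZMod p) V × V)) (W U : Submodule (ZMod p) V) :
    Subgroup (V ≃ₗ[ZMod p] V) := Subgroup.closure (pieceGens P W U)

theorem pieceGroup_le_inPiece (P : Set (Module.Dual (ZMod p) V × V)) (W U : Submodule (ZMod p) V) :
    pieceGroup P W U ≤ inPiece W U := by
  rw [Subgroup.closure_le]
  rintro g ⟨x, -, ⟨hw, hu⟩, hg⟩
  refine ⟨fun u h => by rw [hg, hu u h, zero_smul, add_zero], fun y => ?_⟩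
  rw [hg, add_sub_cancel_left]
  exact W.smul_mem _ hw

theorem pieceGens_subset {H : Subgroup (V ≃ₗ[ZMod p] V)} {W U : Submodule (ZMod p) V} :
    pieceGens (pairsOf H) W U ⊆ H := by
  rintro g ⟨x, ⟨h, hm⟩, -, hg⟩
  have e : g = tre h 1 := LinearEquiv.ext fun y => by rw [hg, tre_apply, one_mul]
  exact e ▸ hm

theorem range_restr [Finite V] {P : Set (Module.Dual (ZMod p) V × V)} (hP : Engine.Closed P)
    {W U : Submodule (ZMod p) V} (hG : Engine.Good P W U) :
    let ρ := restr W U (pieceGroup P W U) (pieceGroup_le_inPiece P W U)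
    (ρ.range : Set (↥W ≃ₗ[ZMod p] ↥W)) = {f : ↥W ≃ₗ[ZMod p] ↥W | LinearMap.det (f : ↥W →ₗ[ZMod p] ↥W) = 1} ∨
      ∃ B : LinearMap.BilinForm (ZMod p) ↥W, B.IsAlt ∧ B.Nondegenerate ∧
        (ρ.range : Set (↥W ≃ₗ[ZMod p] ↥W)) = {f : ↥W ≃ₗ[ZMod p] ↥W | ∀ x y, B (f x) (f y) = B x y} := by
  classical
  intro ρ
  have hcl : ρ.range = Subgroup.closure (ρ '' (Subtype.val ⁻¹' pieceGens P W U)) := by
    rw [MonoidHom.range_eq_map, ← MonoidHom.map_closure, Subgroup.closure_closure_coe_preimage]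
  have mem_range : ∀ (φ : Module.Dual (ZMod p) V) (v : V) (hv : φ v = 0), (φ, v) ∈ P → Engine.Supp W U (φ, v) →
      ∀ f : ↥W ≃ₗ[ZMod p] ↥W, (∀ x : W, (f x : V) = x + φ x • v) → f ∈ ρ.range := by
    intro φ v hv hm hs f hf
    refine ⟨⟨tre hv 1, Subgroup.subset_closure ⟨_, hm, hs, fun y => by rw [tre_apply, one_mul]⟩⟩, ?_⟩
    refine LinearEquiv.ext fun x => Subtype.ext ?_
    rw [restr_apply, hf, tre_apply, one_mul]
  rcases hG with ⟨hSL, -⟩ | ⟨B, hSp, hcase⟩
  · left
    have hle : ∀ f ∈ ρ.range, LinearEquiv.det f = 1 := by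
      intro f hf
      rw [hcl] at hf
      refine (Subgroup.closure_le (K := (LinearEquiv.det (R := ZMod p) (M := ↥W)).ker)).mpr ?_ hf
      rintro _ ⟨g, ⟨x, hx, ⟨hw, hu⟩, hg⟩, rfl⟩
      have h0 : (x.1 ∘ₗ W.subtype) ⟨x.2, hw⟩ = 0 := hP.inc hx
      have e : ρ g = LinearEquiv.transvection (f := x.1 ∘ₗ W.subtype) (v := ⟨x.2, hw⟩) h0 :=
        LinearEquiv.ext fun y => Subtype.ext (hg y)
      rw [SetLike.mem_coe, MonoidHom.mem_ker, e, LinearEquiv.transvection.det_eq_one]
    ext f
    constructor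
    · intro hf
      rw [Set.mem_setOf_eq, ← LinearEquiv.coe_det, hle f hf, Units.val_one]
    · intro hf
      rw [Set.mem_setOf_eq] at hf
      let b := Module.finBasis (ZMod p) ↥W
      let Θ : Matrix.SpecialLinearGroup (Fin (Module.finrank (ZMod p) ↥W)) (ZMod p) →* (↥W ≃ₗ[ZMod p] ↥W) :=
        { toFun := fun g => (b.equivFun.trans (Matrix.SpecialLinearGroup.toLin' g)).trans b.equivFun.symm
          map_one' := LinearEquiv.ext fun x => by simp
          map_mul' := fun g h => LinearEquiv.ext fun x => by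
            show b.equivFun.symm (Matrix.SpecialLinearGroup.toLin' (g * h) (b.equivFun x)) =
              b.equivFun.symm (Matrix.SpecialLinearGroup.toLin' g (b.equivFun (b.equivFun.symm
                (Matrix.SpecialLinearGroup.toLin' h (b.equivFun x)))))
            rw [LinearEquiv.apply_symm_apply, map_mul]
            rfl }
      have hΘe : ∀ g x, Θ g x = b.equivFun.symm (g.1.mulVec (b.equivFun x)) := fun _ _ => rfl
      have hΘ : ∀ g, Θ g ∈ ρ.range := by
        have : Θ.range ≤ ρ.range := by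
          rw [MonoidHom.range_eq_map, ← Cfsg.Lib.Linear.closure_transvection_eq_top, MonoidHom.map_closure,
            Subgroup.closure_le]
          rintro _ ⟨_, ⟨i, j, hij, c, rfl⟩, rfl⟩
          set ν : Module.Dual (ZMod p) V := c • (b.coord j ∘ₗ W.projectionOnto U hSL.compl) with hν
          have hνW : ∀ x : W, ν (x : V) = c * b.repr x j := fun x => by simp [hν]
          have hνb : ν (b i : V) = 0 := by rw [hνW, b.repr_self]; simp [Finsupp.single_apply, hij]
          have hνU : ∀ u ∈ U, ν u = 0 := fun u hu => by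
            simp [hν, Submodule.projectionOnto_apply_right hSL.compl ⟨u, hu⟩]
          refine mem_range ν (b i : V) hνb (hSL.mem ν _ (b i).2 hνU hνb) ⟨(b i).2, hνU⟩ _ fun x => ?_
          have e : Θ (Matrix.SpecialLinearGroup.transvection hij c) x = x + (c * b.repr x j) • b i := by
            apply b.equivFun.injective
            rw [hΘe, LinearEquiv.apply_symm_apply, map_add, map_smul]
            ext k
            simp [Matrix.SpecialLinearGroup.transvection_coe, Matrix.transvection, Matrix.add_mulVec,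
              Finsupp.single_apply, Matrix.single_mulVec, Function.update_apply, Pi.single_apply, eq_comm]
          rw [e, hνW]
          rfl
        exact fun g => this ⟨g, rfl⟩
      have hdet : (LinearMap.toMatrix b b (f : ↥W →ₗ[ZMod p] ↥W)).det = 1 := by rw [LinearMap.det_toMatrix, hf]
      let M : Matrix.SpecialLinearGroup (Fin (Module.finrank (ZMod p) ↥W)) (ZMod p) :=
        ⟨LinearMap.toMatrix b b (f : ↥W →ₗ[ZMod p] ↥W), hdet⟩
      have : Θ M = f := LinearEquiv.ext fun x => by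
        apply b.equivFun.injective
        rw [hΘe, LinearEquiv.apply_symm_apply]
        exact LinearMap.toMatrix_mulVec_repr b b (f : ↥W →ₗ[ZMod p] ↥W) x
      exact this ▸ hΘ _
  · right
    let B' : LinearMap.BilinForm (ZMod p) ↥W := B.compl₁₂ W.subtype W.subtype
    have hA : B'.IsAlt := fun x => hSp.alt (x : V)
    have hN : B'.Nondegenerate := by
      refine ⟨fun x hx => Subtype.ext (hSp.nondeg x x.2 fun y hy => ?_),
        fun x hx => Subtype.ext (hSp.nondeg x x.2 fun y hy => hx ⟨y, hy⟩)⟩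
      rw [← LinearMap.IsAlt.neg hSp.alt, show B (x : V) y = 0 from hx ⟨y, hy⟩, neg_zero]
    refine ⟨B', hA, hN, ?_⟩
    have e : ρ.range = Cfsg.Lib.Linear.Symp.iso B' := by
      apply le_antisymm
      · rw [hcl, Subgroup.closure_le]
        rintro _ ⟨g, ⟨x, hx, ⟨hw, hu⟩, hg⟩, rfl⟩
        by_cases h1 : x.1 = 0
        · have : ρ g = 1 := LinearEquiv.ext fun y => Subtype.ext (by rw [restr_apply, hg, h1]; simp)
          rw [this]; exact one_mem _
        by_cases h2 : x.2 = 0
        · have : ρ g = 1 := LinearEquiv.ext fun y => Subtype.ext (by rw [restr_apply, hg, h2]; simp)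
          rw [this]; exact one_mem _
        rcases hcase x hx h1 h2 with ⟨-, c, hc⟩ | ho
        · intro y z
          show B (((g : V ≃ₗ[ZMod p] V)) (y : V)) ((g : V ≃ₗ[ZMod p] V) (z : V)) = B (y : V) (z : V)
          rw [hg, hg, hc]
          simp only [map_add, map_smul, LinearMap.add_apply, LinearMap.smul_apply, Engine.flip_app, hSp.alt x.2,
            smul_eq_mul, ← LinearMap.IsAlt.neg hSp.alt (z : V) x.2]
          ring
        · exact absurd (Submodule.disjoint_def.mp hSp.compl.disjoint _ hw ho.1) h2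
      · intro f hf
        have h1 : (⟨f, hf⟩ : Cfsg.Lib.Linear.Symp.iso B') ∈
            ρ.range.comap (Cfsg.Lib.Linear.Symp.iso B').subtype := by
          refine (Subgroup.closure_le _).mpr ?_ ((Cfsg.Lib.Linear.Symp.closure_tvG hN hA).symm ▸ Subgroup.mem_top _)
          rintro _ ⟨v, c, rfl⟩
          refine mem_range (c • B.flip (v : V)) (v : V) (by simp [hSp.alt (v : V)])
            (hP.smul_left c (hSp.mem _ v.2)) ⟨v.2, fun u hu => by simp [hSp.rad u hu]⟩ _ fun x => ?_
          rfl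
        exact h1
    rw [e]
    rfl

end Cfsg.Agent.Lib.Transv
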