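import Cfsg.Agent.Lib.Transv.Engine

/-!
# The pieces of a closed set of incident pairs
-/

set_option autoImplicit false

namespace Cfsg.Agent.Lib.Transv.Engine

variable {F : Type*} [Field F] {V : Type*} [AddCommGroup V] [Module F V] [FiniteDimensional F V]
  {P : Set (Module.Dual F V × V)} {W U W' U' : Submodule F V}

theorem Supp.mono {x : Module.Dual F V × V} (h : Supp W U x) (hW : W ≤ W') (hU : U' ≤ U) : Supp W' U' x :=
  ⟨hW h.1, fun u hu => h.2 u (hU hu)⟩

/-- A piece that cannot be enlarged. -/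
def Good (P : Set (Module.Dual F V × V)) (W U : Submodule F V) : Prop :=
  (SLState P W U ∧ ∀ x ∈ P, x.1 ≠ 0 → x.2 ≠ 0 → Supp W U x ∨ Orth W U x) ∨
    ∃ B, SpState P W U B ∧ ∀ x ∈ P, x.1 ≠ 0 → x.2 ≠ 0 → (Supp W U x ∧ ∃ c : F, x.1 = c • B.flip x.2) ∨ Orth W U x

theorem Good.base (hP : Closed P) (h : Good P W U) : Base P W U := by
  rcases h with ⟨h, -⟩ | ⟨B, h, -⟩
  exacts [h.base hP, h.base hP]

theorem Good.compl (h : Good P W U) : IsCompl W U := by
  rcases h with ⟨h, -⟩ | ⟨B, h, -⟩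
  exacts [h.compl, h.compl]

theorem Good.classify (h : Good P W U) {x : Module.Dual F V × V} (hx : x ∈ P) (h1 : x.1 ≠ 0) (h2 : x.2 ≠ 0) :
    Supp W U x ∨ Orth W U x := by
  rcases h with ⟨-, h⟩ | ⟨B, -, h⟩
  · exact h x hx h1 h2
  · exact (h x hx h1 h2).imp_left And.left

theorem Good.ne_bot (hP : Closed P) (h : Good P W U) : W ≠ ⊥ := fun e => by
  have := (h.base hP).two_le
  rw [e, finrank_bot] at this
  omega

theorem Good.cover (h : Good P W U) {w : V} (hw : w ∈ W) (hw0 : w ≠ 0) :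
    ∃ φ : Module.Dual F V, φ ≠ 0 ∧ (φ, w) ∈ P ∧ Supp W U (φ, w) := by
  rcases h with ⟨h, -⟩ | ⟨B, h, -⟩
  · obtain ⟨x, hx, hxS⟩ := exists_not_mem (W := W) (S := Submodule.span F {w})
      (lt_of_le_of_lt (finrank_span_le w) (by linarith [h.three_le]))
    obtain ⟨μ, hU, hS, hμx⟩ := exists_dual h.compl ((Submodule.span_singleton_le_iff_mem _ _).mpr hw) hx hxS
    exact ⟨μ, fun e => by simp [e] at hμx, h.mem μ w hw hU (hS w (Submodule.mem_span_singleton_self w)), hw, hU⟩
  · exact ⟨B.flip w, h.flip_ne hw hw0, h.mem w hw, hw, h.flip_rad w⟩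

theorem Good.mem_U (hP : Closed P) (h : Good P W U) {x : V}
    (hx : ∀ φ v, (φ, v) ∈ P → v ≠ 0 → Supp W U (φ, v) → φ x = 0) : x ∈ U := by
  obtain ⟨a, ha, b, hb, rfl⟩ := decomp h.compl x
  by_cases ha0 : a = 0
  · simpa [ha0] using hb
  obtain ⟨α, w, hw, hw0, hαU, hm, hαa⟩ := (h.base hP).hitL a ha ha0
  have := hx α w hm hw0 ⟨hw, hαU⟩
  rw [map_add, hαU b hb, add_zero] at this
  exact absurd this hαa

theorem Good.W_or (h : Good P W U) (h' : Good P W' U') : W ≤ W' ∨ W ≤ U' := by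
  by_contra hno
  push Not at hno
  obtain ⟨⟨a, ha, ha'⟩, ⟨b, hb, hb'⟩⟩ := And.intro (SetLike.not_le_iff_exists.mp hno.1) (SetLike.not_le_iff_exists.mp hno.2)
  have key : ∀ w ∈ W, w ∈ W' ∨ w ∈ U' := fun w hw => by
    by_cases hw0 : w = 0
    · exact Or.inl (hw0 ▸ zero_mem _)
    obtain ⟨φ, hφ, hm, -⟩ := h.cover hw hw0
    exact (h'.classify hm hφ hw0).imp (fun e => e.1) fun e => e.1
  have haU : a ∈ U' := (key a ha).resolve_left ha'
  have hbW : b ∈ W' := (key b hb).resolve_right hb'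
  rcases key (a + b) (add_mem ha hb) with e | e
  · exact ha' (by simpa using sub_mem e hbW)
  · exact hb' (by simpa using sub_mem e haU)

/-- Two pieces agree or are orthogonal. -/
theorem Good.trichotomy (hP : Closed P) (h : Good P W U) (h' : Good P W' U') :
    (W = W' ∧ U = U') ∨ (W ≤ U' ∧ W' ≤ U) := by
  have hbot : ∀ {A B C : Submodule F V}, IsCompl B C → A ≤ B → A ≤ C → A = ⊥ := fun hc h1 h2 =>
    le_bot_iff.mp (hc.inf_eq_bot ▸ le_inf h1 h2)
  rcases h.W_or h' with h1 | h1 <;> rcases h'.W_or h with h2 | h2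
  · left
    have e : W = W' := le_antisymm h1 h2
    subst e
    have same : ∀ {A B : Submodule F V}, Good P W A → Good P W B → B ≤ A := by
      intro A B hA hB x hx
      refine hA.mem_U hP fun φ v hm hv hs => ?_
      by_cases hφ : φ = 0
      · simp [hφ]
      rcases hB.classify hm hφ hv with e | e
      · exact e.2 x hx
      · exact absurd (Submodule.disjoint_def.mp hB.compl.disjoint v hs.1 e.1) hv
    exact ⟨rfl, le_antisymm (same h' h) (same h h')⟩
  · exact absurd (hbot h.compl le_rfl (h1.trans h2)) (h.ne_bot hP)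
  · exact absurd (hbot h'.compl le_rfl (h2.trans h1)) (h'.ne_bot hP)
  · exact Or.inr ⟨h1, h2⟩

/-- The starting piece. -/
theorem start (hP : Closed P) {φ : Module.Dual F V} {v : V} (hm : (φ, v) ∈ P) (hφ : φ ≠ 0) (hv : v ≠ 0) :
    ∃ W U B, SpState P W U B ∧ Supp W U (φ, v) := by
  obtain ⟨ψ₀, w₀, hz₀, hφw₀, hψv₀⟩ := hP.partner hm hφ hv
  set ψ := (ψ₀ v)⁻¹ • ψ₀ with hψdef
  set w := (φ w₀)⁻¹ • w₀ with hwdef
  have hψv : ψ v = 1 := by simp [hψdef, hψv₀]
  have hφw : φ w = 1 := by simp [hwdef, hφw₀]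
  have hz : (ψ, w) ∈ P := hP.smul_left _ (hP.smul_right _ hz₀)
  have hφv := hP.inc hm
  have hψw := hP.inc hz
  let B : LinearMap.BilinForm F V := LinearMap.mk₂ F (fun x y => φ x * ψ y - ψ x * φ y)
    (fun x₁ x₂ y => by simp only [map_add]; ring) (fun s x y => by simp only [map_smul, smul_eq_mul]; ring)
    (fun x y₁ y₂ => by simp only [map_add]; ring) (fun s x y => by simp only [map_smul, smul_eq_mul]; ring)
  have hB : ∀ x y, B x y = φ x * ψ y - ψ x * φ y := fun _ _ => rfl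
  have halt : B.IsAlt := fun x => by rw [hB]; ring
  have hfv : B.flip v = φ := LinearMap.ext fun x => by rw [flip_app, hB, hψv, hφv]; ring
  have hfw : B.flip w = (-1 : F) • ψ := LinearMap.ext fun x => by
    rw [flip_app, hB, hψw, hφw]; simp
  have hvw : B v w = -1 := by rw [hB, hφv, hψv, hψw, hφw]; ring
  set W := Submodule.span F {v, w} with hW
  set U := LinearMap.ker φ ⊓ LinearMap.ker ψ with hU
  have hcompl : IsCompl W U := by
    constructor
    · rw [Submodule.disjoint_def]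
      intro x hx hxU
      obtain ⟨s, t, rfl⟩ := Submodule.mem_span_pair.mp hx
      obtain ⟨h1, h2⟩ := hxU
      simp [hφv, hφw, hψv, hψw] at h1 h2
      simp [h1, h2]
    · refine codisjoint_iff.mpr (eq_top_iff.mpr fun x _ => ?_)
      exact Submodule.mem_sup.mpr ⟨ψ x • v + φ x • w, Submodule.mem_span_pair.mpr ⟨_, _, rfl⟩,
        x - (ψ x • v + φ x • w), Submodule.mem_inf.mpr ⟨by simp [hφv, hφw], by simp [hψv, hψw]⟩, by abel⟩
  have hscale : ∀ {y : V}, (B.flip y, y) ∈ P → ∀ k : F, (B.flip (k • y), k • y) ∈ P := fun {y} hy k => by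
    rw [map_smul]; exact hP.smul_left k (hP.smul_right k hy)
  have hPv : (B.flip v, v) ∈ P := hfv ▸ hm
  have hPw : (B.flip w, w) ∈ P := hfw ▸ hP.smul_left (-1) hz
  have hall : ∀ s t : F, (B.flip (s • v + t • w), s • v + t • w) ∈ P := by
    intro s t
    by_cases hs : s = 0
    · rw [hs, zero_smul, zero_add]; exact hscale hPw t
    · have hne : B v w ≠ 0 := by rw [hvw]; simp
      have e : (B.flip (v + (t / s) • w), v + (t / s) • w) ∈ P := by
        convert flip_move halt hP hPw hPv ((t / s) / B v w) using 2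
        · rw [flip_app, show B w v = -B v w from (LinearMap.IsAlt.neg halt v w).symm, mul_neg,
            div_mul_cancel₀ _ hne, map_add, map_smul]
          module
        · rw [div_mul_cancel₀ _ hne]
      have := hscale e s
      rwa [smul_add, smul_smul, mul_div_cancel₀ _ hs] at this
  refine ⟨W, U, B, ⟨hcompl, halt, ?_, ?_, ?_, ?_⟩, Submodule.subset_span (by simp), fun u hu => hu.1⟩
  · rintro u ⟨h1, h2⟩ x
    rw [hB, LinearMap.mem_ker.mp h1, LinearMap.mem_ker.mp h2]; ring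
  · intro x hx h0
    obtain ⟨s, t, rfl⟩ := Submodule.mem_span_pair.mp hx
    have e1 := h0 v (Submodule.subset_span (by simp))
    have e2 := h0 w (Submodule.subset_span (by simp))
    simp [hB, hφv, hφw, hψv, hψw] at e1 e2
    simp [e1, e2]
  · have hlt : Submodule.span F {v} < W := lt_of_le_of_ne (Submodule.span_mono (by simp)) fun e => by
      have hw : w ∈ Submodule.span F {v} := e ▸ Submodule.subset_span (by simp)
      obtain ⟨c, hc⟩ := Submodule.mem_span_singleton.mp hw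
      rw [← hc, map_smul, hφv, smul_zero] at hφw
      exact zero_ne_one hφw
    have := Submodule.finrank_lt_finrank_of_lt hlt
    rw [finrank_span_singleton hv] at this
    omega
  · intro x hx
    obtain ⟨s, t, rfl⟩ := Submodule.mem_span_pair.mp hx
    exact hall s t

/-- Every pair lies in a piece. -/
theorem exists_good [Finite V] (hP : Closed P) {φ : Module.Dual F V} {v : V} (hm : (φ, v) ∈ P) (hφ : φ ≠ 0)
    (hv : v ≠ 0) : ∃ W U, Good P W U ∧ Supp W U (φ, v) := by
  classical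
  have : Finite (Submodule F V) := Finite.of_injective _ SetLike.coe_injective
  let S : Set (Submodule F V × Submodule F V × Bool) := {z | Supp z.1 z.2.1 (φ, v) ∧
    ((z.2.2 = true ∧ SLState P z.1 z.2.1) ∨ (z.2.2 = false ∧ ∃ B, SpState P z.1 z.2.1 B))}
  obtain ⟨W₀, U₀, B₀, h₀, hs₀⟩ := start hP hm hφ hv
  obtain ⟨⟨W, U, b⟩, ⟨hs, hz⟩, hmax⟩ := Set.exists_max_image S
    (fun z => 2 * Module.finrank F z.1 + z.2.2.toNat) (Set.toFinite _) ⟨(W₀, U₀, false), hs₀, Or.inr ⟨rfl, B₀, h₀⟩⟩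
  refine ⟨W, U, ?_, hs⟩
  have sl : ∀ W' U', SLState P W' U' → W ≤ W' → U' ≤ U →
      2 * Module.finrank F W' + 1 ≤ 2 * Module.finrank F W + b.toNat := fun W' U' h hW hU =>
    hmax (W', U', true) ⟨hs.mono hW hU, Or.inl ⟨rfl, h⟩⟩
  have grown : ¬ Grown P W U := fun ⟨W', U', h, hW, hU, hr⟩ => by
    have := sl W' U' h hW hU
    have := b.toNat_le
    omega
  rcases hz with ⟨hb, h⟩ | ⟨hb, B, h⟩
  · refine Or.inl ⟨h, fun x hx h1 h2 => ?_⟩
    by_contra hno
    push Not at hno
    exact grown (sl_step hP h hx h1 h2 hno.1 hno.2)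
  · refine Or.inr ⟨B, h, fun x hx h1 h2 => ?_⟩
    dsimp only at hb
    by_contra hno
    rw [not_or] at hno
    rcases sp_step hP h hx h1 h2 hno.1 hno.2 with h' | h' | ⟨W', U', B', h', hW, hU, hr⟩
    · have := sl W U h' le_rfl le_rfl
      simp [hb] at this
    · exact grown h'
    · have h4 := hmax (W', U', false) ⟨hs.mono hW hU, Or.inr ⟨rfl, B', h'⟩⟩
      simp [hb] at h4
      dsimp only at h4 hr ⊢
      omega

end Cfsg.Agent.Lib.Transv.Engine
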