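import Cfsg.Agent.Lib.Transv.Basic
import Cfsg.Agent.Lib.Linear.OrthBasic

/-!
# Siegel transvection groups as abstract root groups
-/

set_option autoImplicit false
set_option linter.unusedSectionVars false

namespace Cfsg.Agent.Lib.Siegel

open Cfsg
open Cfsg.Lib.Linear.Orth
open Cfsg.Agent.Lib.RankOne (mem_conjBy eq_one_of_normalizes conjBy_eq_self_of_commute)
open scoped Matrix MatrixGroups commutatorElement

variable {ι : Type} [Fintype ι] [DecidableEq ι] {F : Type*} [Field F]
  {Q : (ι → F) → F} {B : LinearMap.BilinForm F (ι → F)}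

/-- A basis of a singular line. -/
structure IsLine (Q : (ι → F) → F) (B : LinearMap.BilinForm F (ι → F)) (p r : ι → F) : Prop where
  left : Q p = 0
  right : Q r = 0
  orth : B p r = 0
  indep : LinearIndependent F ![p, r]

/-- The root element. -/
noncomputable def rho (Q : (ι → F) → F) (B : LinearMap.BilinForm F (ι → F)) (p r : ι → F) (t : F) : GL ι F :=
  sGL Q B p (t • r)

section

variable (C : Space Q B) {p r u v : ι → F} (hl : IsLine Q B p r)

include C hl

theorem rho_act (t : F) (x : ι → F) : (rho Q B p r t).val *ᵥ x = x + t • (B p x • r - B r x • p) := by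
  rw [rho, sGL_act C hl.left (by rw [map_smul, hl.orth, smul_zero]), C.smul, hl.right]
  simp only [map_smul, LinearMap.smul_apply, smul_eq_mul]
  module

theorem rho_mem (t : F) : rho Q B p r t ∈ isometryGroup F Q :=
  sGL_mem C hl.left (by rw [map_smul, hl.orth, smul_zero])

theorem rho_add (s t : F) : rho Q B p r (s + t) = rho Q B p r s * rho Q B p r t := by
  rw [rho, rho, rho, sGL_mul C hl.left (by rw [map_smul, hl.orth, smul_zero])
    (by rw [map_smul, hl.orth, smul_zero]), add_smul]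

theorem rho_zero : rho Q B p r 0 = 1 := gl_ext fun x => by
  rw [rho_act C hl, zero_smul, add_zero, Units.val_one, Matrix.one_mulVec]

theorem rho_inv (t : F) : (rho Q B p r t)⁻¹ = rho Q B p r (-t) :=
  inv_eq_of_mul_eq_one_right (by rw [← rho_add C hl, add_neg_cancel, rho_zero C hl])

theorem rho_conj {g : GL ι F} (hg : g ∈ isometryGroup F Q) (t : F) :
    g * rho Q B p r t * g⁻¹ = rho Q B (g.val *ᵥ p) (g.val *ᵥ r) t := by
  rw [rho, rho, sGL_conj C hl.left (by rw [map_smul, hl.orth, smul_zero]) hg, Matrix.mulVec_smul]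

theorem line_act {g : GL ι F} (hg : g ∈ isometryGroup F Q) : IsLine Q B (g.val *ᵥ p) (g.val *ᵥ r) where
  left := by rw [mem_iso.mp hg, hl.left]
  right := by rw [mem_iso.mp hg, hl.right]
  orth := by rw [C.B_act hg, hl.orth]
  indep := by
    rw [LinearIndependent.pair_iff]
    intro s t h
    rw [← Matrix.mulVec_smul, ← Matrix.mulVec_smul, ← Matrix.mulVec_add] at h
    exact LinearIndependent.pair_iff.mp hl.indep s t (act_injective g (h.trans (Matrix.mulVec_zero _).symm))

theorem exists_dual : ∃ p' r', B p p' = 1 ∧ B r p' = 0 ∧ B p r' = 0 ∧ B r r' = 1 := by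
  have aux : ∀ x y : ι → F, LinearIndependent F ![x, y] → ∃ w, B x w = 1 ∧ B y w = 0 := by
    intro x y hxy
    obtain ⟨u, hu⟩ := C.exists_pair (show y ≠ 0 from hxy.ne_zero 1)
    have hne : x - B x u • y ≠ 0 := fun e => one_ne_zero (LinearIndependent.pair_iff.mp hxy 1 (-(B x u))
      (by rw [one_smul, neg_smul, ← sub_eq_add_neg, e])).1
    obtain ⟨w, hw⟩ := C.exists_pair hne
    refine ⟨w - B y w • u, ?_, ?_⟩
    · rw [map_sub, LinearMap.sub_apply, map_smul, LinearMap.smul_apply, smul_eq_mul] at hw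
      rw [map_sub, map_smul, smul_eq_mul]
      linear_combination hw
    · rw [map_sub, map_smul, smul_eq_mul, hu, mul_one, sub_self]
  obtain ⟨p', h1, h2⟩ := aux p r hl.indep
  obtain ⟨r', h3, h4⟩ := aux r p (LinearIndependent.pair_symm_iff.mp hl.indep)
  exact ⟨p', r', h1, h2, h4, h3⟩

theorem rho_eq_one {t : F} (h : rho Q B p r t = 1) : t = 0 := by
  obtain ⟨p', r', h1, h2, -, -⟩ := exists_dual C hl
  have := rho_act C hl t p'
  rw [h, Units.val_one, Matrix.one_mulVec, h1, h2, one_smul, zero_smul, sub_zero, left_eq_add] at this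
  exact (smul_eq_zero.mp this).resolve_right (hl.indep.ne_zero 1)

/-- An isometry fixing the orthogonal space of a line is a root element. -/
theorem exists_rho {g : GL ι F} (hg : g ∈ isometryGroup F Q)
    (hfix : ∀ x, B x p = 0 → B x r = 0 → g.val *ᵥ x = x) : ∃ t, g = rho Q B p r t := by
  obtain ⟨p', r', h1, h2, h3, h4⟩ := exists_dual C hl
  have gp : g.val *ᵥ p = p := hfix p (C.self_zero hl.left) hl.orth
  have gr : g.val *ᵥ r = r := hfix r (by rw [C.symm, hl.orth]) (C.self_zero hl.right)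
  obtain ⟨α, hα⟩ : ∃ α, α = g.val *ᵥ p' - p' := ⟨_, rfl⟩
  obtain ⟨β, hβ⟩ : ∃ β, β = g.val *ᵥ r' - r' := ⟨_, rfl⟩
  have span : ∀ y, g.val *ᵥ y - y = B (g.val *ᵥ y - y) p' • p + B (g.val *ᵥ y - y) r' • r := by
    intro y
    rw [← sub_eq_zero]
    refine C.nondeg' fun w => ?_
    have hp0 : B (g.val *ᵥ y - y) p = 0 := by
      rw [map_sub, LinearMap.sub_apply, sub_eq_zero]
      conv_lhs => arg 2; rw [← gp]
      exact C.B_act hg _ _
    have hr0 : B (g.val *ᵥ y - y) r = 0 := by
      rw [map_sub, LinearMap.sub_apply, sub_eq_zero]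
      conv_lhs => arg 2; rw [← gr]
      exact C.B_act hg _ _
    obtain ⟨x, hx⟩ : ∃ x, x = w - B p w • p' - B r w • r' := ⟨_, rfl⟩
    have xp : B x p = 0 := by
      rw [C.symm, hx]; simp only [map_sub, map_smul, smul_eq_mul, h1, h3]; ring
    have xr : B x r = 0 := by
      rw [C.symm, hx]; simp only [map_sub, map_smul, smul_eq_mul, h2, h4]; ring
    have hx0 : B (g.val *ᵥ y - y) x = 0 := by
      rw [map_sub, LinearMap.sub_apply, sub_eq_zero]
      conv_lhs => arg 2; rw [← hfix x xp xr]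
      exact C.B_act hg _ _
    rw [hx] at hx0
    simp only [map_sub, map_add, map_smul, LinearMap.sub_apply, LinearMap.add_apply, LinearMap.smul_apply,
      smul_eq_mul, hp0, hr0] at hx0 ⊢
    linear_combination hx0
  obtain ⟨a, b, eα⟩ : ∃ a b, g.val *ᵥ p' = p' + (a • p + b • r) := ⟨_, _, by rw [← span p']; abel⟩
  obtain ⟨c, d, eβ⟩ : ∃ c d, g.val *ᵥ r' = r' + (c • p + d • r) := ⟨_, _, by rw [← span r']; abel⟩
  have ha : a = 0 := by
    have h := mem_iso.mp hg p'
    rw [eα, C.add, C.smul_add, hl.left, hl.right, hl.orth, map_add, map_smul, map_smul, C.symm p' p, C.symm p' r,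
      h1, h2] at h
    simp only [smul_eq_mul] at h
    linear_combination h
  have hd : d = 0 := by
    have h := mem_iso.mp hg r'
    rw [eβ, C.add, C.smul_add, hl.left, hl.right, hl.orth, map_add, map_smul, map_smul, C.symm r' p, C.symm r' r,
      h3, h4] at h
    simp only [smul_eq_mul] at h
    linear_combination h
  have hc : b + c = 0 := by
    have h := C.B_act hg p' r'
    rw [eα, eβ] at h
    simp only [map_add, map_smul, LinearMap.add_apply, LinearMap.smul_apply, smul_eq_mul, C.self_zero hl.left,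
      C.self_zero hl.right, C.symm r p, hl.orth, C.symm p' p, C.symm p' r, h1, h2, h3, h4] at h
    linear_combination h
  refine ⟨b, gl_ext fun x => ?_⟩
  obtain ⟨z, hz⟩ : ∃ z, z = x - B p x • p' - B r x • r' := ⟨_, rfl⟩
  have zfix : g.val *ᵥ z = z := by
    refine hfix z ?_ ?_ <;> rw [C.symm, hz] <;> simp only [map_sub, map_smul, smul_eq_mul, h1, h2, h3, h4] <;> ring
  have ex : x = z + B p x • p' + B r x • r' := by rw [hz]; abel
  rw [rho_act C hl]
  conv_lhs => rw [ex, Matrix.mulVec_add, Matrix.mulVec_add, Matrix.mulVec_smul, Matrix.mulVec_smul, zfix, eα, eβ, hz]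
  rw [ha, hd, show c = -b by linear_combination hc]
  module

/-- The root group inside `GL`. -/
noncomputable def rootGL : Subgroup (GL ι F) where
  carrier := {g | ∃ t, g = rho Q B p r t}
  one_mem' := ⟨0, (rho_zero C hl).symm⟩
  mul_mem' := by rintro _ _ ⟨s, rfl⟩ ⟨t, rfl⟩; exact ⟨s + t, (rho_add C hl s t).symm⟩
  inv_mem' := by rintro _ ⟨t, rfl⟩; exact ⟨-t, rho_inv C hl t⟩

theorem mem_rootGL {g : GL ι F} : g ∈ rootGL C hl ↔ ∃ t, g = rho Q B p r t := Iff.rfl

theorem line_symm : IsLine Q B r p :=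
  ⟨hl.right, hl.left, by rw [C.symm, hl.orth], LinearIndependent.pair_symm_iff.mp hl.indep⟩

theorem line_comb {a b c d : F} (h : a * d - b * c ≠ 0) : IsLine Q B (a • p + b • r) (c • p + d • r) where
  left := by rw [C.smul_add, hl.left, hl.right, hl.orth]; ring
  right := by rw [C.smul_add, hl.left, hl.right, hl.orth]; ring
  orth := by
    simp only [map_add, map_smul, LinearMap.add_apply, LinearMap.smul_apply, smul_eq_mul, C.self_zero hl.left,
      C.self_zero hl.right, C.symm r p, hl.orth]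
    ring
  indep := by
    rw [LinearIndependent.pair_iff]
    intro s t e
    obtain ⟨e1, e2⟩ := LinearIndependent.pair_iff.mp hl.indep (s * a + t * c) (s * b + t * d)
      (by rw [← e]; module)
    exact ⟨(mul_eq_zero.mp (show s * (a * d - b * c) = 0 by linear_combination d * e1 - c * e2)).resolve_right h,
      (mul_eq_zero.mp (show t * (a * d - b * c) = 0 by linear_combination a * e2 - b * e1)).resolve_right h⟩

end

variable (C : Space Q B)

include C in
theorem rootGL_congr {p r p' r' : ι → F} (hl : IsLine Q B p r) (hl' : IsLine Q B p' r') {a b c d : F}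
    (h : a * d - b * c ≠ 0) (ep : p' = a • p + b • r) (er : r' = c • p + d • r) : rootGL C hl' = rootGL C hl := by
  have key : ∀ t, rho Q B p' r' t = rho Q B p r ((a * d - b * c) * t) := fun t => gl_ext fun x => by
    rw [rho_act C hl, rho_act C hl', ep, er]
    simp only [map_add, map_smul, LinearMap.add_apply, LinearMap.smul_apply, smul_eq_mul]
    module
  ext g
  constructor
  · rintro ⟨t, rfl⟩; exact ⟨_, key t⟩
  · rintro ⟨t, rfl⟩; exact ⟨(a * d - b * c)⁻¹ * t, by rw [key, mul_inv_cancel_left₀ h]⟩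

section planes

variable {p r u v : ι → F} (hl : IsLine Q B p r) (hm : IsLine Q B u v) (h1 : B p u = 1) (h2 : B r v = 1)
  (h3 : B p v = 0) (h4 : B r u = 0)

/-- The action of `SL₂` on two hyperbolic planes. -/
def pairMap (B : LinearMap.BilinForm F (ι → F)) (p r u v : ι → F) (g : Matrix (Fin 2) (Fin 2) F) :
    (ι → F) →ₗ[F] (ι → F) where
  toFun x := x + ((g 0 0 - 1) * B v x + g 0 1 * B p x) • r + (g 1 0 * B v x + (g 1 1 - 1) * B p x) • u +
    ((g 0 0 - 1) * B u x - g 0 1 * B r x) • p + (-(g 1 0 * B u x) + (g 1 1 - 1) * B r x) • v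
  map_add' x y := by simp only [map_add]; module
  map_smul' c x := by simp only [map_smul, smul_eq_mul, RingHom.id_apply]; module

include C hl hm h1 h2 h3 h4

/-- The homomorphism from `SL₂`. -/
noncomputable def pairHom : SL(2, F) →* GL ι F :=
  MonoidHom.toHomUnits
    { toFun := fun g => LinearMap.toMatrix' (pairMap B p r u v g)
      map_one' := by
        rw [show pairMap B p r u v ((1 : SL(2, F)) : Matrix (Fin 2) (Fin 2) F) = LinearMap.id from
          LinearMap.ext fun x => by simp [pairMap]]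
        exact LinearMap.toMatrix'_id
      map_mul' := fun g h => by
        rw [← LinearMap.toMatrix'_comp]
        congr 1
        refine LinearMap.ext fun x => ?_
        simp only [pairMap, Matrix.SpecialLinearGroup.coe_mul, Matrix.mul_apply, Fin.sum_univ_two, LinearMap.coe_mk,
          AddHom.coe_mk, LinearMap.comp_apply, map_add, map_smul, smul_eq_mul, C.self_zero hl.left,
          C.self_zero hl.right, C.self_zero hm.left, C.self_zero hm.right, hl.orth, hm.orth, C.symm r p, C.symm v u,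
          C.symm u p, C.symm v p, C.symm u r, C.symm v r, h1, h2, h3, h4]
        module }

theorem pairHom_act (g : SL(2, F)) (x : ι → F) :
    (pairHom C hl hm h1 h2 h3 h4 g).val *ᵥ x = pairMap B p r u v g x :=
  LinearMap.toMatrix'_mulVec _ _

theorem pairHom_U (t : F) : pairHom C hl hm h1 h2 h3 h4 (Cfsg.Agent.S5016.U1 t) = rho Q B p r t :=
  gl_ext fun x => by
    rw [pairHom_act, rho_act C hl]
    simp [pairMap, Cfsg.Agent.S5016.U1]
    module

theorem pairHom_L (t : F) : pairHom C hl hm h1 h2 h3 h4 (Cfsg.Agent.S5016.L1 t) = rho Q B u v (-t) :=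
  gl_ext fun x => by
    rw [pairHom_act, rho_act C hm]
    simp [pairMap, Cfsg.Agent.S5016.L1]
    module

theorem pairHom_injective : Function.Injective (pairHom C hl hm h1 h2 h3 h4) := by
  refine (injective_iff_map_eq_one _).mpr fun g hg => ?_
  have hr := pairHom_act C hl hm h1 h2 h3 h4 g r
  have hu := pairHom_act C hl hm h1 h2 h3 h4 g u
  rw [hg, Units.val_one, Matrix.one_mulVec] at hr hu
  simp only [pairMap, LinearMap.coe_mk, AddHom.coe_mk, C.symm v r, h2, hl.orth, C.symm u r, h4,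
    C.self_zero hl.right, C.symm v u, hm.orth, h1, C.self_zero hm.left] at hr hu
  have a1 := congrArg (B v) hr
  have a2 := congrArg (B p) hr
  have a3 := congrArg (B v) hu
  have a4 := congrArg (B p) hu
  simp [map_add, map_smul, C.symm v r, h2, C.symm v u, hm.orth, hl.orth, h1, C.self_zero hm.right,
    C.self_zero hl.left, C.symm v p, h3] at a1 a2 a3 a4
  refine Subtype.ext (Matrix.ext fun i j => ?_)

  fin_cases i <;> fin_cases j <;> simp [← a1, ← a2, ← a3, ← a4]

end planes

section group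

variable {G : Type*} [Group G]

/-- A group of isometries containing all root elements. -/
structure Setting (C : Space Q B) (θ : G →* GL ι F) : Prop where
  inj : Function.Injective θ
  iso : ∀ g, θ g ∈ isometryGroup F Q
  root : ∀ p r, ∀ h : IsLine Q B p r, rootGL C h ≤ θ.range

/-- The root subgroups. -/
def roots (C : Space Q B) (θ : G →* GL ι F) : Set (Subgroup G) :=
  {A | ∃ p r, ∃ h : IsLine Q B p r, A = (rootGL C h).comap θ}

variable {C} {θ : G →* GL ι F} (hS : Setting C θ) {p r u v : ι → F}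

include hS

theorem exists_elt (hl : IsLine Q B p r) (t : F) : ∃ g ∈ (rootGL C hl).comap θ, θ g = rho Q B p r t := by
  obtain ⟨g, hg⟩ := hS.root p r hl ⟨t, rfl⟩
  exact ⟨g, ⟨t, hg⟩, hg⟩

theorem root_ne_bot (hl : IsLine Q B p r) : (rootGL C hl).comap θ ≠ ⊥ := fun e => by
  obtain ⟨g, hg, hg'⟩ := exists_elt hS hl 1
  rw [e, Subgroup.mem_bot] at hg
  rw [hg, map_one] at hg'
  exact one_ne_zero (rho_eq_one C hl hg'.symm)

theorem root_conj (hl : IsLine Q B p r) (g : G) :
    conjBy ((rootGL C hl).comap θ) g = (rootGL C (line_act C hl (hS.iso g))).comap θ := by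
  ext x
  rw [mem_conjBy, Subgroup.mem_comap, Subgroup.mem_comap, map_mul, map_mul, map_inv, mem_rootGL, mem_rootGL]
  refine exists_congr fun t => ?_
  rw [← rho_conj C hl (hS.iso g)]
  constructor <;> intro h
  · rw [← h]; group
  · rw [h]; group

theorem comm_formula (hl : IsLine Q B p r) (hm : IsLine Q B u v) (h1 : B p u = 1) (h2 : B r v = 0)
    (h3 : B p v = 0) (h4 : B r u = 0) (s t : F) (x : ι → F) :
    (rho Q B p r t).val *ᵥ ((rho Q B u v s).val *ᵥ x) =
      (rho Q B u v s).val *ᵥ ((rho Q B p r t).val *ᵥ x) + (t * s) • (B r x • v - B v x • r) := by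
  simp only [rho_act C hl, rho_act C hm, map_add, map_sub, map_smul, smul_eq_mul, h1, h2, h3, h4, C.symm u p,
    C.symm u r, C.symm v p, C.symm v r]
  module

theorem not_pair_of_commute (hl : IsLine Q B p r) (hm : IsLine Q B u v)
    (h : ⁅(rootGL C hl).comap θ, (rootGL C hm).comap θ⁆ = ⊥) :
    ¬ IsRankOnePair ((rootGL C hl).comap θ) ((rootGL C hm).comap θ) := fun hp => by
  obtain ⟨a, ha, ha'⟩ := exists_elt hS hl 1
  have ha1 : a ≠ 1 := fun e => one_ne_zero (rho_eq_one C hl (by rw [← ha', e, map_one]))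
  exact ha1 (eq_one_of_normalizes hp ha
    (conjBy_eq_self_of_commute fun b hb => Cfsg.Agent.Lib.RankOne.commutator_eq_bot_iff.mp h a ha b hb))

theorem commute_case (hl : IsLine Q B p r) (hm : IsLine Q B u v)
    (h : ∀ s t : F, ∀ x, (rho Q B p r t).val *ᵥ ((rho Q B u v s).val *ᵥ x) =
      (rho Q B u v s).val *ᵥ ((rho Q B p r t).val *ᵥ x)) :
    ⁅(rootGL C hl).comap θ, (rootGL C hm).comap θ⁆ = ⊥ := by
  rw [Cfsg.Agent.Lib.RankOne.commutator_eq_bot_iff]
  rintro a ⟨t, ha⟩ b ⟨s, hb⟩
  refine hS.inj ?_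
  rw [map_mul, map_mul, ha, hb]
  exact gl_ext fun x => by rw [mul_act, mul_act, h]

theorem pair_case (hl : IsLine Q B p r) (hm : IsLine Q B u v) (h1 : B p u = 1) (h2 : B r v = 1)
    (h3 : B p v = 0) (h4 : B r u = 0) :
    IsRankOnePair ((rootGL C hl).comap θ) ((rootGL C hm).comap θ) ∧
      IsPSL2PairOver F ((rootGL C hl).comap θ) ((rootGL C hm).comap θ) := by
  set f := pairHom C hl hm h1 h2 h3 h4
  have eU : (upperUnipotentSL2 F).map f = rootGL C hl := by
    ext g
    constructor
    · rintro ⟨x, hx, rfl⟩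
      obtain ⟨t, ht⟩ := (Cfsg.Agent.S5016.mem_upper x).mp hx
      exact ⟨t, by rw [Cfsg.Agent.S5016.eq_U1 ht, pairHom_U]⟩
    · rintro ⟨t, rfl⟩
      exact ⟨_, (Cfsg.Agent.S5016.mem_upper _).mpr ⟨t, rfl⟩, pairHom_U C hl hm h1 h2 h3 h4 t⟩
  have eL : (lowerUnipotentSL2 F).map f = rootGL C hm := by
    ext g
    constructor
    · rintro ⟨x, hx, rfl⟩
      obtain ⟨t, ht⟩ := (Cfsg.Agent.S5016.mem_lower x).mp hx
      exact ⟨-t, by rw [Cfsg.Agent.S5016.eq_L1 ht, pairHom_L]⟩
    · rintro ⟨t, rfl⟩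
      exact ⟨_, (Cfsg.Agent.S5016.mem_lower _).mpr ⟨-t, rfl⟩,
        (pairHom_L C hl hm h1 h2 h3 h4 (-t)).trans (by rw [neg_neg])⟩
  have hrange : f.range ≤ θ.range := by
    rw [MonoidHom.range_eq_map, ← Cfsg.Agent.S5016.gen_top F, Subgroup.map_sup, eU, eL]
    exact sup_le (hS.root u v hm) (hS.root p r hl)
  let j : SL(2, F) →* G := (MonoidHom.ofInjective hS.inj).symm.toMonoidHom.comp
    (f.codRestrict θ.range fun x => hrange ⟨x, rfl⟩)
  have hj : ∀ x, θ (j x) = f x := fun x => congrArg Subtype.val ((MonoidHom.ofInjective hS.inj).apply_symm_apply _)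
  have hjinj : Function.Injective j := fun a b e =>
    pairHom_injective C hl hm h1 h2 h3 h4 ((hj a).symm.trans ((congrArg θ e).trans (hj b)))
  have hmap : ∀ P : Subgroup SL(2, F), ∀ R : Subgroup (GL ι F), P.map f = R → P.map j = R.comap θ := by
    rintro P R rfl
    refine Subgroup.ext fun x => ⟨?_, ?_⟩
    · rintro ⟨q, hq, rfl⟩
      exact ⟨q, hq, (hj q).symm⟩
    · rintro ⟨q, hq, e⟩
      exact ⟨q, hq, hS.inj ((hj q).trans e)⟩
  have eA := hmap _ _ eU
  have eB := hmap _ _ eL
  refine ⟨?_, j, ?_, ?_, eA, eB⟩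
  · rw [← eA, ← eB]
    exact Transv.pair_map hjinj (RankOnePair_symm (Cfsg.Agent.S5016.result F).2.1.1)
  · rw [← eA, ← eB, ← Subgroup.map_sup, sup_comm, Cfsg.Agent.S5016.gen_top, MonoidHom.range_eq_map]
  · rw [(MonoidHom.ker_eq_bot_iff j).mpr hjinj]
    exact bot_le

theorem comm_case (hl : IsLine Q B p r) (hm : IsLine Q B u v) (h1 : B p u = 1) (h2 : B r v = 0)
    (h3 : B p v = 0) (h4 : B r u = 0) (hc : IsLine Q B r v) :
    RootCommutatorCase (roots C θ) ((rootGL C hl).comap θ) ((rootGL C hm).comap θ) ∧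
      ¬ IsRankOnePair ((rootGL C hl).comap θ) ((rootGL C hm).comap θ) := by
  have key : ∀ a b : G, ∀ t s, θ a = rho Q B p r t → θ b = rho Q B u v s →
      θ (a * b * a⁻¹ * b⁻¹) = rho Q B r v (t * s) := by
    intro a b t s ea eb
    rw [map_mul, map_mul, map_mul, map_inv, map_inv, ea, eb, mul_inv_eq_iff_eq_mul, mul_inv_eq_iff_eq_mul]
    refine gl_ext fun x => ?_
    rw [mul_act, mul_act, mul_act, comm_formula hS hl hm h1 h2 h3 h4, rho_act C hc]
    simp only [rho_act C hl, rho_act C hm, map_add, map_sub, map_smul, smul_eq_mul, h1, h2, h3, h4, C.symm u p,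
      C.symm u r, C.symm v p, C.symm v r, hl.orth, C.symm r p, C.self_zero hl.right, hm.orth, C.symm v u, C.self_zero hm.right]
    module
  have cl : ∀ c ∈ (rootGL C hc).comap θ, ∀ (a b : ι → F) (hab : IsLine Q B a b), B a r = 0 → B b r = 0 →
      B a v = 0 → B b v = 0 → ∀ y ∈ (rootGL C hab).comap θ, c * y = y * c := by
    rintro c ⟨k, hk⟩ a b hab e1 e2 e3 e4 y ⟨t, hy⟩
    refine hS.inj ?_
    rw [map_mul, map_mul, hk, hy]
    refine gl_ext fun x => ?_
    simp only [mul_act, rho_act C hab, rho_act C hc, map_add, map_sub, map_smul, smul_eq_mul,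
      C.symm r a, C.symm r b, C.symm v a, C.symm v b, e1, e2, e3, e4]
    module
  have hle : ⁅(rootGL C hl).comap θ, (rootGL C hm).comap θ⁆ ≤ (rootGL C hc).comap θ := by
    refine Subgroup.commutator_le.mpr ?_
    rintro a ⟨t, ha⟩ b ⟨s, hb⟩
    exact ⟨t * s, by rw [commutatorElement_def, key a b t s ha hb]⟩
  have hA : ∀ a ∈ (rootGL C hl).comap θ, a ≠ 1 → (rootGL C hc).comap θ ≤
      Subgroup.closure ((fun b : G => a * b * a⁻¹ * b⁻¹) '' (((rootGL C hm).comap θ : Subgroup G) : Set G)) := by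
    rintro a ⟨t, ha⟩ ha1 x ⟨k, hx⟩
    have ht : t ≠ 0 := fun e => ha1 (hS.inj (by rw [map_one, ha, e, rho_zero C hl]))
    obtain ⟨b, hb, hb'⟩ := exists_elt hS hm (k / t)
    exact Subgroup.subset_closure ⟨b, hb, hS.inj (by rw [key a b t _ ha hb', hx, mul_div_cancel₀ _ ht])⟩
  have hB : ∀ b ∈ (rootGL C hm).comap θ, b ≠ 1 → (rootGL C hc).comap θ ≤
      Subgroup.closure ((fun a : G => a * b * a⁻¹ * b⁻¹) '' (((rootGL C hl).comap θ : Subgroup G) : Set G)) := by
    rintro b ⟨s, hb⟩ hb1 x ⟨k, hx⟩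
    have hs : s ≠ 0 := fun e => hb1 (hS.inj (by rw [map_one, hb, e, rho_zero C hm]))
    obtain ⟨a, ha, ha'⟩ := exists_elt hS hl (k / s)
    exact Subgroup.subset_closure ⟨a, ha, hS.inj (by rw [key a b _ s ha' hb, hx, div_mul_cancel₀ _ hs])⟩
  obtain ⟨a₀, ha₀, ha₀'⟩ := exists_elt hS hl 1
  have ha₀1 : a₀ ≠ 1 := fun e => one_ne_zero (rho_eq_one C hl (by rw [← ha₀', e, map_one]))
  have eD : ⁅(rootGL C hl).comap θ, (rootGL C hm).comap θ⁆ = (rootGL C hc).comap θ := by
    refine le_antisymm hle ((hA a₀ ha₀ ha₀1).trans ((Subgroup.closure_le _).mpr ?_))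
    rintro _ ⟨b, hb, rfl⟩
    exact Subgroup.commutator_mem_commutator ha₀ hb
  refine ⟨⟨eD ▸ ⟨r, v, hc, rfl⟩, ?_, fun a ha ha1 => le_antisymm ?_ (eD.le.trans (hA a ha ha1)),
    fun b hb hb1 => le_antisymm ?_ (eD.le.trans (hB b hb hb1))⟩, fun hp => ?_⟩
  · intro c hc' x hx
    have hsup : (rootGL C hl).comap θ ⊔ (rootGL C hm).comap θ ≤ Subgroup.centralizer ({c} : Set G) := by
      refine sup_le ?_ ?_ <;> intro y hy <;> rw [Subgroup.mem_centralizer_singleton_iff]
      · exact (cl c (hle hc') p r hl hl.orth (C.self_zero hl.right) h3 h2 y hy).symm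
      · exact (cl c (hle hc') u v hm (by rw [C.symm, h4]) (by rw [C.symm, h2]) hm.orth
          (C.self_zero hm.right) y hy).symm
    exact (Subgroup.mem_centralizer_singleton_iff.mp (hsup hx)).symm
  · refine (Subgroup.closure_le _).mpr ?_
    rintro _ ⟨b, hb, rfl⟩
    exact Subgroup.commutator_mem_commutator ha hb
  · refine (Subgroup.closure_le _).mpr ?_
    rintro _ ⟨a, ha, rfl⟩
    exact Subgroup.commutator_mem_commutator ha hb
  · obtain ⟨b, ⟨k, hb⟩, -, e⟩ := hp.cond_left a₀ ha₀ ha₀1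
    rw [root_conj hS, root_conj hS] at e
    obtain ⟨g, hg, hg'⟩ := exists_elt hS (line_act C hl (hS.iso b⁻¹)) 1
    obtain ⟨s, hs⟩ := e ▸ hg
    have := congrArg (fun M : GL ι F => M.val *ᵥ p) (hg'.symm.trans hs)
    simp only [rho_act C (line_act C hl (hS.iso b⁻¹)), rho_act C (line_act C hm (hS.iso a₀⁻¹))] at this
    simp only [map_inv, hb, ha₀', rho_inv C hl, rho_inv C hm, rho_act C hl, rho_act C hm] at this
    simp only [map_add, map_sub, map_smul, LinearMap.add_apply, LinearMap.sub_apply, LinearMap.smul_apply,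
      smul_eq_mul, C.self_zero hl.left, hl.orth, C.symm r p, C.symm u p, C.symm u r, C.symm v p, C.symm v r,
      h1, h2, h3, h4] at this
    have hs0 : s • v = 0 := by linear_combination (norm := module) -this
    have hs1 : s = 0 := (smul_eq_zero.mp hs0).resolve_right (hm.indep.ne_zero 1)
    rw [hs1, rho_zero C (line_act C hm (hS.iso a₀⁻¹))] at hs
    exact one_ne_zero (rho_eq_one C (line_act C hl (hS.iso b⁻¹)) (hg'.symm.trans hs))

/-- Possible positions of two root groups. -/
def Trichotomy (C : Space Q B) (θ : G →* GL ι F) (A D : Subgroup G) : Prop :=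
  (⁅A, D⁆ = ⊥ ∧ ¬ IsRankOnePair A D) ∨ (IsRankOnePair A D ∧ IsPSL2PairOver F A D) ∨
    (RootCommutatorCase (roots C θ) A D ∧ ¬ IsRankOnePair A D)

/-- Normal forms of two lines meeting non-orthogonally. -/
theorem cases_aux (hl : IsLine Q B p r) (hm : IsLine Q B u v) (h : B p u ≠ 0) :
    Trichotomy C θ ((rootGL C hl).comap θ) ((rootGL C hm).comap θ) ∧
      (B p u * B r v - B r u * B p v ≠ 0 → IsRankOnePair ((rootGL C hl).comap θ) ((rootGL C hm).comap θ)) := by
  have hl' := line_comb C hl (a := 1) (b := 0) (c := -(B r u / B p u)) (d := 1) (by simp)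
  obtain ⟨d, hd⟩ : ∃ d, d = B r v - B r u / B p u * B p v := ⟨_, rfl⟩
  by_cases h0 : d = 0
  · have hm' := line_comb C hm (a := (B p u)⁻¹) (b := 0) (c := -(B p v / B p u)) (d := 1) (by simpa using h)
    have e1 : B ((1 : F) • p + (0 : F) • r) ((B p u)⁻¹ • u + (0 : F) • v) = 1 := by simp [h]
    have e2 : B (-(B r u / B p u) • p + (1 : F) • r) (-(B p v / B p u) • u + (1 : F) • v) = 0 := by
      simp only [map_add, map_smul, LinearMap.add_apply, LinearMap.smul_apply, smul_eq_mul]
      rw [hd] at h0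
      field_simp at h0 ⊢
      linear_combination h0
    have e3 : B ((1 : F) • p + (0 : F) • r) (-(B p v / B p u) • u + (1 : F) • v) = 0 := by simp [h]
    have e4 : B (-(B r u / B p u) • p + (1 : F) • r) ((B p u)⁻¹ • u + (0 : F) • v) = 0 := by
      simp only [map_add, map_smul, LinearMap.add_apply, LinearMap.smul_apply, smul_eq_mul]
      field_simp
      ring
    rw [← rootGL_congr C hl hl' (by simp) rfl rfl, ← rootGL_congr C hm hm' (by simpa using h) rfl rfl]
    refine ⟨?_, fun hdet => absurd ?_ hdet⟩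
    · by_cases hc : LinearIndependent F ![-(B r u / B p u) • p + (1 : F) • r, -(B p v / B p u) • u + (1 : F) • v]
      · exact Or.inr (Or.inr (comm_case hS hl' hm' e1 e2 e3 e4 ⟨hl'.right, hm'.right, e2, hc⟩))
      · have hc' := commute_case hS hl' hm' fun s t x => by
          rw [comm_formula hS hl' hm' e1 e2 e3 e4, add_eq_left]
          rw [LinearIndependent.pair_iff] at hc
          push Not at hc
          obtain ⟨a, b, e, hab⟩ := hc
          have hb0 : b ≠ 0 := fun hb => by
            rw [hb, zero_smul, add_zero, smul_eq_zero] at e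
            exact hab (e.resolve_right (hl'.indep.ne_zero 1)) hb
          generalize -(B r u / B p u) • p + (1 : F) • r = r' at e ⊢
          generalize -(B p v / B p u) • u + (1 : F) • v = v' at e ⊢
          have ev : v' = (-(a / b)) • r' := by
            have h5 := congrArg (fun z => b⁻¹ • z) e
            simp only [smul_add, smul_smul, inv_mul_cancel₀ hb0, one_smul, smul_zero] at h5
            rw [eq_neg_of_add_eq_zero_right h5, neg_smul, div_eq_inv_mul]
          rw [ev, map_smul, LinearMap.smul_apply, smul_eq_mul]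
          module
        exact Or.inl ⟨hc', not_pair_of_commute hS hl' hm' hc'⟩
    · rw [hd] at h0
      field_simp at h0
      linear_combination h0
  · have hdet : (B p u)⁻¹ * d⁻¹ - (0 : F) * (-(B p v / B p u) * d⁻¹) ≠ 0 := by simp [h, h0]
    have hm' := line_comb C hm hdet
    have e1 : B ((1 : F) • p + (0 : F) • r) ((B p u)⁻¹ • u + (0 : F) • v) = 1 := by simp [h]
    have e2 : B (-(B r u / B p u) • p + (1 : F) • r) ((-(B p v / B p u) * d⁻¹) • u + d⁻¹ • v) = 1 := by
      simp only [map_add, map_smul, LinearMap.add_apply, LinearMap.smul_apply, smul_eq_mul]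
      field_simp
      rw [hd]
      field_simp
      ring
    have e3 : B ((1 : F) • p + (0 : F) • r) ((-(B p v / B p u) * d⁻¹) • u + d⁻¹ • v) = 0 := by
      simp only [map_add, map_smul, LinearMap.add_apply, LinearMap.smul_apply, smul_eq_mul]
      field_simp
      ring
    have e4 : B (-(B r u / B p u) • p + (1 : F) • r) ((B p u)⁻¹ • u + (0 : F) • v) = 0 := by
      simp only [map_add, map_smul, LinearMap.add_apply, LinearMap.smul_apply, smul_eq_mul]
      field_simp
      ring
    rw [← rootGL_congr C hl hl' (by simp) rfl rfl, ← rootGL_congr C hm hm' hdet rfl rfl]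
    have := pair_case hS hl' hm' e1 e2 e3 e4
    exact ⟨Or.inr (Or.inl this), fun _ => this.1⟩

theorem trichotomy (hl : IsLine Q B p r) (hm : IsLine Q B u v) :
    Trichotomy C θ ((rootGL C hl).comap θ) ((rootGL C hm).comap θ) := by
  have sl := rootGL_congr C hl (line_symm C hl) (a := 0) (b := 1) (c := 1) (d := 0) (by simp) (by simp) (by simp)
  have sm := rootGL_congr C hm (line_symm C hm) (a := 0) (b := 1) (c := 1) (d := 0) (by simp) (by simp) (by simp)
  by_cases h1 : B p u ≠ 0
  · exact (cases_aux hS hl hm h1).1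
  by_cases h2 : B p v ≠ 0
  · exact sm ▸ (cases_aux hS hl (line_symm C hm) h2).1
  by_cases h3 : B r u ≠ 0
  · exact sl ▸ (cases_aux hS (line_symm C hl) hm h3).1
  by_cases h4 : B r v ≠ 0
  · exact sl ▸ sm ▸ (cases_aux hS (line_symm C hl) (line_symm C hm) h4).1
  push Not at h1 h2 h3 h4
  have hc := commute_case hS hl hm fun s t x => by
    simp only [rho_act C hl, rho_act C hm, map_add, map_sub, map_smul, smul_eq_mul, C.symm u p, C.symm u r,
      C.symm v p, C.symm v r, h1, h2, h3, h4]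
    module
  exact Or.inl ⟨hc, not_pair_of_commute hS hl hm hc⟩

theorem kRootSet (hgen : (⨆ A ∈ roots C θ, A) = ⊤) : IsKRootSubgroupSet F (roots C θ) := by
  refine ⟨⟨?_, ?_, hgen, ?_, ?_⟩, ?_⟩
  · rintro _ ⟨p, r, hl, rfl⟩
    refine ⟨⟨fun ⟨a, s, ha⟩ ⟨b, t, hb⟩ => Subtype.ext (hS.inj ?_)⟩⟩
    show θ (a * b) = θ (b * a)
    rw [map_mul, map_mul, ha, hb, ← rho_add C hl, ← rho_add C hl, add_comm]
  · rintro _ ⟨p, r, hl, rfl⟩
    exact root_ne_bot hS hl
  · rintro _ ⟨p, r, hl, rfl⟩ g
    exact ⟨_, _, _, root_conj hS hl g⟩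
  · rintro _ ⟨p, r, hl, rfl⟩ _ ⟨u, v, hm, rfl⟩
    rcases trichotomy hS hl hm with h | h | h
    · exact Or.inl h.1
    · exact Or.inr (Or.inl h.1)
    · exact Or.inr (Or.inr h.1)
  · rintro _ ⟨p, r, hl, rfl⟩ _ ⟨u, v, hm, rfl⟩ hp
    rcases trichotomy hS hl hm with h | h | h
    · exact absurd hp h.2
    · exact h.2
    · exact absurd hp h.2

/-- Two lines through a point have a common opposite. -/
theorem hop (hdim : 5 ≤ Fintype.card ι) {p r s : ι → F} (hl : IsLine Q B p r) (hm : IsLine Q B p s) :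
    Relation.ReflTransGen (FAdj (roots C θ)) ((rootGL C hl).comap θ) ((rootGL C hm).comap θ) := by
  obtain ⟨w, hw⟩ := C.exists_pair (show p ≠ 0 from hl.indep.ne_zero 0)
  obtain ⟨u, hu⟩ : ∃ u, u = w + (-Q w) • p := ⟨_, rfl⟩
  have hu1 : B p u = 1 := by rw [hu, map_add, map_smul, C.self_zero hl.left, hw]; simp
  have hu0 : Q u = 0 := by
    rw [hu, C.add, C.smul, hl.left, map_smul, C.symm w p, hw]; simp
  have hl' := line_comb C hl (a := 1) (b := 0) (c := -B r u) (d := 1) (by simp)
  have hm' := line_comb C hm (a := 1) (b := 0) (c := -B s u) (d := 1) (by simp)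
  rw [← rootGL_congr C hl hl' (by simp) rfl rfl, ← rootGL_congr C hm hm' (by simp) rfl rfl]
  have hr4 : B (-B r u • p + (1 : F) • r) u = 0 := by simp [hu1]
  have hs4 : B (-B s u • p + (1 : F) • s) u = 0 := by simp [hu1]
  have hp' : (1 : F) • p + (0 : F) • r = p := by simp
  have hp'' : (1 : F) • p + (0 : F) • s = p := by simp
  generalize -B r u • p + (1 : F) • r = r' at hl' hr4 ⊢
  generalize -B s u • p + (1 : F) • s = s' at hm' hs4 ⊢
  revert hl' hm'
  rw [hp', hp'']
  intro hl' hm'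
  have mk : ∀ a, Q a = 0 → B p a = 0 → B a u = 0 → a ≠ 0 →
      ∃ v, Q v = 0 ∧ B p v = 0 ∧ B u v = 0 ∧ B a v = 1 := by
    intro a ha hpa hau ha0
    obtain ⟨w, hw⟩ := C.exists_pair ha0
    obtain ⟨x, hx⟩ : ∃ x, x = w - B p w • u - B u w • p := ⟨_, rfl⟩
    have x1 : B p x = 0 := by rw [hx]; simp [hu1, C.self_zero hl.left]
    have x2 : B u x = 0 := by rw [hx]; simp [C.symm u p, hu1, C.self_zero hu0]
    have x3 : B a x = 1 := by rw [hx]; simp [hau, C.symm a p, hpa, hw]
    refine ⟨x + (-Q x) • a, ?_, ?_, ?_, ?_⟩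
    · rw [C.add, C.smul, ha, map_smul, C.symm x a, x3]; simp
    · simp [x1, hpa]
    · simp [x2, C.symm u a, hau]
    · simp [x3, C.self_zero ha]
  obtain ⟨v, hv0, hv1, hv2, hv3, hv4⟩ :
      ∃ v, Q v = 0 ∧ B p v = 0 ∧ B u v = 0 ∧ B r' v ≠ 0 ∧ B s' v ≠ 0 := by
    obtain ⟨v₁, a0, a1, a2, a3⟩ := mk r' hl'.right hl'.orth hr4 (hl'.indep.ne_zero 1)
    obtain ⟨v₂, b0, b1, b2, b3⟩ := mk s' hm'.right hm'.orth hs4 (hm'.indep.ne_zero 1)
    by_cases k1 : B s' v₁ ≠ 0
    · exact ⟨v₁, a0, a1, a2, by rw [a3]; exact one_ne_zero, k1⟩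
    by_cases k2 : B r' v₂ ≠ 0
    · exact ⟨v₂, b0, b1, b2, k2, by rw [b3]; exact one_ne_zero⟩
    push Not at k1 k2
    by_cases k : B s' r' = 0
    · refine ⟨v₁ + v₂ + (-B v₁ v₂) • r', ?_, ?_, ?_, ?_, ?_⟩
      · rw [C.add, C.add, C.smul, a0, b0, hl'.right]
        simp [C.symm v₁ r', C.symm v₂ r', a3, k2]
      · simp [a1, b1, hl'.orth]
      · simp [a2, b2, C.symm u r', hr4]
      · simp [a3, k2, C.self_zero hl'.right]
      · simp [k1, b3, k]
    · let T : (ι → F) →ₗ[F] (Fin 4 → F) := LinearMap.pi ![B p, B u, B r', B s']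
      have hT : LinearMap.ker T ≠ ⊥ := LinearMap.ker_ne_bot_of_finrank_lt (by
        rw [Module.finrank_fintype_fun_eq_card, Module.finrank_fintype_fun_eq_card, Fintype.card_fin]; omega)
      obtain ⟨y, hy, hy0⟩ := Submodule.exists_mem_ne_zero_of_ne_bot hT
      have hy' := fun i => congrFun (LinearMap.mem_ker.mp hy) i
      have y1 : B p y = 0 := hy' 0
      have y2 : B u y = 0 := hy' 1
      have y3 : B r' y = 0 := hy' 2
      have y4 : B s' y = 0 := hy' 3
      obtain ⟨z, z1, z2, z3, z4, zQ⟩ :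
          ∃ z, B p z = 0 ∧ B u z = 0 ∧ B r' z = 0 ∧ B s' z = 0 ∧ Q z ≠ 0 := by
        by_contra hno
        push Not at hno
        refine hy0 (C.nondeg' fun w => ?_)
        obtain ⟨z, hz⟩ : ∃ z, z = w - B p w • u - B u w • p - (B s' w / B s' r') • r' - (B r' w / B s' r') • s' :=
          ⟨_, rfl⟩
        have c1 : B p z = 0 := by rw [hz]; simp [hu1, C.self_zero hl.left, hl'.orth, hm'.orth]
        have c2 : B u z = 0 := by
          rw [hz]; simp [C.symm u p, hu1, C.self_zero hu0, C.symm u r', hr4, C.symm u s', hs4]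
        have c3 : B r' z = 0 := by
          rw [hz]; simp [hr4, C.symm r' p, hl'.orth, C.self_zero hl'.right, C.symm r' s', k]
        have c4 : B s' z = 0 := by
          rw [hz]; simp [hs4, C.symm s' p, hm'.orth, C.self_zero hm'.right, k]
        have e := C.add y z
        rw [hno _ (by rw [map_add, y1, c1, add_zero]) (by rw [map_add, y2, c2, add_zero])
          (by rw [map_add, y3, c3, add_zero]) (by rw [map_add, y4, c4, add_zero]), hno _ y1 y2 y3 y4,
          hno _ c1 c2 c3 c4, zero_add, zero_add, hz] at e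
        simp [C.symm y p, C.symm y u, C.symm y r', C.symm y s', y1, y2, y3, y4] at e
        exact e.symm
      refine ⟨r' + (-Q z / B s' r') • s' + z, ?_, ?_, ?_, ?_, ?_⟩
      · rw [C.add, C.add, C.smul, hl'.right, hm'.right]
        simp [z3, z4, C.symm r' s', k]
      · simp [hl'.orth, hm'.orth, z1]
      · simp [C.symm u r', hr4, C.symm u s', hs4, z2]
      · simp [C.self_zero hl'.right, C.symm r' s', z3, k, zQ]
      · simp [C.self_zero hm'.right, z4, k]
  have huv : IsLine Q B u v := by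
    refine ⟨hu0, hv0, hv2, LinearIndependent.pair_iff.mpr fun a b e => ?_⟩
    have := congrArg (B r') e
    have hb : b = 0 := by simpa [hr4, hv3] using this
    have := congrArg (B p) e
    exact ⟨by simpa [hu1, hv1] using this, hb⟩
  have key : ∀ a, ∀ ha : IsLine Q B p a, B a u = 0 → B a v ≠ 0 →
      IsRankOnePair ((rootGL C ha).comap θ) ((rootGL C huv).comap θ) := fun a ha e1 e2 =>
    (cases_aux hS ha huv (by rw [hu1]; exact one_ne_zero)).2 (by rw [hu1, e1, one_mul, zero_mul, sub_zero]; exact e2)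
  exact (Relation.ReflTransGen.single
      ⟨⟨_, _, hl', rfl⟩, ⟨_, _, huv, rfl⟩, key r' hl' hr4 hv3⟩).tail
    ⟨⟨_, _, huv, rfl⟩, ⟨_, _, hm', rfl⟩, RankOnePair_symm (key s' hm' hs4 hv4)⟩

theorem connected (hdim : 5 ≤ Fintype.card ι) : IsConnectedFamily (FAdj (roots C θ)) (roots C θ) := by
  rintro _ ⟨p, r, hl, rfl⟩ _ ⟨u, v, hm, rfl⟩
  obtain ⟨x, y, hxy, e, hx⟩ : ∃ x y, ∃ h : IsLine Q B x y, rootGL C h = rootGL C hm ∧ B p x = 0 := by
    by_cases h : B p u = 0
    · exact ⟨u, v, hm, rfl, h⟩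
    · exact ⟨_, _, line_comb C hm (a := -(B p v / B p u)) (b := 1) (c := 1) (d := 0) (by simp),
        rootGL_congr C hm _ (by simp) rfl rfl, by simp [h]⟩
  rw [← e]
  by_cases hpx : LinearIndependent F ![p, x]
  · have h1 : IsLine Q B p x := ⟨hl.left, hxy.left, hx, hpx⟩
    refine (hop hS hdim hl h1).trans ?_
    rw [← rootGL_congr C h1 (line_symm C h1) (a := 0) (b := 1) (c := 1) (d := 0) (by simp) (by simp) (by simp)]
    exact hop hS hdim (line_symm C h1) hxy
  · rw [LinearIndependent.pair_iff] at hpx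
    push Not at hpx
    obtain ⟨a, b, e1, hab⟩ := hpx
    have hb : b ≠ 0 := fun hb => by
      rw [hb, zero_smul, add_zero, smul_eq_zero] at e1
      exact hab (e1.resolve_right (hl.indep.ne_zero 0)) hb
    have ha : a ≠ 0 := fun ha => by
      rw [ha, zero_smul, zero_add, smul_eq_zero] at e1
      exact hb (e1.resolve_right (hxy.indep.ne_zero 0))
    have ep : p = (-(b / a)) • x + (0 : F) • y := by
      have h5 := congrArg (fun z => a⁻¹ • z) e1
      simp only [smul_add, smul_smul, inv_mul_cancel₀ ha, one_smul, smul_zero] at h5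
      rw [zero_smul, add_zero, eq_neg_of_add_eq_zero_left h5, neg_smul, div_eq_inv_mul]
    have ey : y = (0 : F) • x + (1 : F) • y := by simp
    have hdet : -(b / a) * 1 - 0 * 0 ≠ (0 : F) := by simp [ha, hb]
    have h2 : IsLine Q B p y := by
      have := line_comb C hxy hdet
      rwa [← ep, ← ey] at this
    rw [← rootGL_congr C hxy h2 hdet ep ey]
    exact hop hS hdim hl h2

end group

end Cfsg.Agent.Lib.Siegel
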