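import Cfsg.Agent.Lib.Transv.Family
import Cfsg.Agent.Lib.Linear.Hermitian

/-!
# Unitary transvection groups as abstract root groups
-/

set_option autoImplicit false

namespace Cfsg.Agent.Lib.Transv

open Cfsg
open Cfsg.Lib.Linear.Herm (iso)
open scoped MatrixGroups commutatorElement

variable {F : Type*} [Field F] {V : Type*} [AddCommGroup V] [Module F V] {σ : F →+* F}

/-- A group acting by isometries, containing all isotropic transvections; `θ` embeds the fixed field of `σ`. -/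
structure UnitarySetting (B : V →ₛₗ[σ] V →ₗ[F] F) {G : Type*} [Group G] (ι : G →* (V ≃ₗ[F] V))
    {L : Type*} [Field L] (θ : L →+* F) (e : F) : Prop where
  symm : B.IsSymm
  nondeg : B.Nondegenerate
  inj : Function.Injective ι
  isometry : ∀ g, ι g ∈ iso B
  tre_range : ∀ (p : V) (h : B p p = 0) (c : F), c + σ c = 0 → tre h c ∈ ι.range
  invol : ∀ a, σ (σ a) = a
  fixed : ∀ a, σ a = a ↔ a ∈ θ.range
  e_ne : e ≠ 0
  e_tr : e + σ e = 0
  nontriv : ∃ a, a + σ a ≠ 0

variable {B : V →ₛₗ[σ] V →ₗ[F] F} {G : Type*} [Group G] {ι : G →* (V ≃ₗ[F] V)} {L : Type*} [Field L] {θ : L →+* F}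
  {e : F} (hU : UnitarySetting B ι θ e)

/-- The family of unitary root groups. -/
def unitaryRoots (B : V →ₛₗ[σ] V →ₗ[F] F) (ι : G →* (V ≃ₗ[F] V)) : Set (Subgroup G) :=
  {A | ∃ p : V, p ≠ 0 ∧ ∃ h : B p p = 0, A = rootG ι h}

namespace UnitarySetting

include hU

theorem comm_eq (x y : V) : σ (B x y) = B y x := hU.symm.eq x y

theorem exists_ne {p : V} (hp : p ≠ 0) : ∃ u, B p u ≠ 0 := by
  by_contra h
  push Not at h
  exact hp (hU.nondeg.1 p h)

theorem trace_zero_iff {c : F} : c + σ c = 0 ↔ ∃ t : L, c = θ t * e := by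
  constructor
  · intro hc
    have he' : σ e ≠ 0 := by simpa using hU.e_ne
    have h1 : σ (c / e) = c / e := by
      rw [map_div₀, eq_neg_of_add_eq_zero_right hc, eq_neg_of_add_eq_zero_right hU.e_tr, neg_div_neg_eq]
    obtain ⟨t, ht⟩ := (hU.fixed _).mp h1
    exact ⟨t, by rw [ht, div_mul_cancel₀ _ hU.e_ne]⟩
  · rintro ⟨t, rfl⟩
    rw [map_mul, (hU.fixed (θ t)).mpr ⟨t, rfl⟩, ← mul_add, hU.e_tr, mul_zero]

theorem coef {p : V} (hp : p ≠ 0) {h : B p p = 0} {g : G} {c : F} (hg : ι g = tre h c) : c + σ c = 0 := by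
  obtain ⟨u, hu⟩ := hU.exists_ne hp
  have h1 := hU.isometry g u u
  rw [hg, tre_apply] at h1
  simp only [map_add, map_smul, LinearMap.map_smulₛₗ, LinearMap.add_apply, LinearMap.smul_apply, smul_eq_mul,
    map_mul, h, hU.comm_eq p u, RingHom.id_apply] at h1
  have hu' : B u p ≠ 0 := fun e => hu (hU.symm.isRefl _ _ e)
  have h2 : (c + σ c) * (B p u * B u p) = 0 := by linear_combination h1
  exact (mul_eq_zero.mp h2).resolve_right (mul_ne_zero hu hu')

theorem root_ne_bot {p : V} (hp : p ≠ 0) (h : B p p = 0) : rootG ι h ≠ ⊥ := by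
  intro e1
  obtain ⟨g, hg⟩ := hU.tre_range p h e hU.e_tr
  have hg1 : g = 1 := Subgroup.mem_bot.mp (e1 ▸ show g ∈ rootG ι h by rw [Subgroup.mem_comap, hg]; exact tre_mem _ _)
  obtain ⟨u, hu⟩ := hU.exists_ne hp
  rw [hg1, map_one] at hg
  exact hU.e_ne ((tre_one h hu hp).mp hg.symm)

theorem root_conj {p : V} (hp : p ≠ 0) (h : B p p = 0) (g : G) :
    conjBy (rootG ι h) g ∈ unitaryRoots B ι := by
  have h' : B (ι g p) (ι g p) = 0 := (hU.isometry g p p).trans h
  refine ⟨ι g p, fun e => hp ((ι g).injective (e.trans (map_zero _).symm)), h', (rootG_conj g).trans ?_⟩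
  refine congrArg (Subgroup.comap ι) (trG_congr _ _ fun x => ?_)
  show B p ((ι g).symm x) • _ = B (ι g p) x • _
  conv_rhs => rw [← (ι g).apply_symm_apply x, hU.isometry g]

/-- Two non-orthogonal isotropic centres give an injective image of `SL₂` over the fixed field. -/
theorem exists_hom {p r : V} (h : B p p = 0) (h' : B r r = 0) (hpr : B p r ≠ 0) :
    ∃ (r' : V) (j : SL(2, L) →* G), B p r' ≠ 0 ∧ Function.Injective j ∧
      (upperUnipotentSL2 L).map j = rootG ι h ∧ (lowerUnipotentSL2 L).map j = rootG ι h' ∧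
      (∀ x, ι (j x) p = p + (θ (x 0 0) - 1) • p + θ (x 1 0) • r') ∧
      ∀ x, ι (j x) r' = r' + θ (x 0 1) • p + (θ (x 1 1) - 1) • r' := by
  have hp : p ≠ 0 := fun e => hpr (by simp [e])
  have hr : r ≠ 0 := fun e => hpr (by simp [e])
  set s : F := (e * B p r)⁻¹ with hs
  have hs0 : s ≠ 0 := inv_ne_zero (mul_ne_zero hU.e_ne hpr)
  set r' := s • r with hr'
  have hr'0 : B r' r' = 0 := by simp [hr', h']
  have hpr' : e * B p r' = 1 := by
    rw [hr', map_smul, smul_eq_mul, hs]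
    field_simp [hU.e_ne, hpr]
  have hrp : (-e) * B r' p = 1 := by
    have h1 := congrArg σ hpr'
    rw [map_mul, map_one, hU.comm_eq, eq_neg_of_add_eq_zero_right hU.e_tr] at h1
    exact h1
  have hφv : (e • B p) p = 0 := by simp [h]
  have hψw : ((-e) • B r') r' = 0 := by simp [hr'0]
  have hφw : (e • B p) r' = 1 := hpr'
  have hψv : ((-e) • B r') p = 1 := hrp
  set f := (planeHom hφv hψw hφw hψv).comp (Matrix.SpecialLinearGroup.map θ) with hf
  have hfinj : Function.Injective f := by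
    refine (planeHom_injective hφv hψw hφw hψv).comp fun x y hxy => Matrix.SpecialLinearGroup.ext _ _ fun i j => ?_
    exact θ.injective (congrArg (fun g : SL(2, F) => g i j) hxy)
  have hmap : ∀ (g : SL(2, L)) (i k : Fin 2), (Matrix.SpecialLinearGroup.map θ g) i k = θ (g i k) :=
    fun _ _ _ => rfl
  have hU1 : ∀ t : L, f (Cfsg.Agent.S5016.U1 t) = tre h (θ t * e) := fun t => LinearEquiv.ext fun x => by
    rw [hf, MonoidHom.comp_apply, planeHom_apply, tre_apply]
    simp only [hmap]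
    simp [Cfsg.Agent.S5016.U1, mul_assoc]
  have hL1 : ∀ t : L, f (Cfsg.Agent.S5016.L1 t) = tre h' (θ t * (-e) * (σ s * s)) := fun t =>
    LinearEquiv.ext fun x => by
      rw [hf, MonoidHom.comp_apply, planeHom_apply, tre_apply]
      simp only [hmap]
      simp [Cfsg.Agent.S5016.L1, hr', smul_smul, mul_assoc, mul_comm, mul_left_comm]
  have hcU : ∀ t : L, θ t * e + σ (θ t * e) = 0 := fun t => hU.trace_zero_iff.mpr ⟨t, rfl⟩
  have hss : σ (σ s * s) = σ s * s := by rw [map_mul, hU.invol, mul_comm]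
  have hcL : ∀ t : L, θ t * (-e) * (σ s * s) + σ (θ t * (-e) * (σ s * s)) = 0 := fun t => by
    have := hcU t
    simp only [map_mul, map_neg, hss] at this ⊢
    linear_combination (-(σ s * s)) * this
  have hrange : f.range ≤ ι.range := by
    rw [MonoidHom.range_eq_map, ← Cfsg.Agent.S5016.gen_top L, Subgroup.map_sup]
    refine sup_le ?_ ?_
    · rintro _ ⟨x, hx, rfl⟩
      obtain ⟨t, ht⟩ := (Cfsg.Agent.S5016.mem_lower x).mp hx
      rw [Cfsg.Agent.S5016.eq_L1 ht, hL1]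
      exact hU.tre_range r h' _ (hcL t)
    · rintro _ ⟨x, hx, rfl⟩
      obtain ⟨t, ht⟩ := (Cfsg.Agent.S5016.mem_upper x).mp hx
      rw [Cfsg.Agent.S5016.eq_U1 ht, hU1]
      exact hU.tre_range p h _ (hcU t)
  let j : SL(2, L) →* G := (MonoidHom.ofInjective hU.inj).symm.toMonoidHom.comp
    (f.codRestrict ι.range fun x => hrange ⟨x, rfl⟩)
  have hj : ∀ x, ι (j x) = f x := fun x => congrArg Subtype.val ((MonoidHom.ofInjective hU.inj).apply_symm_apply _)
  have hjinj : Function.Injective j := fun a b e => hfinj (by rw [← hj, ← hj, e])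
  refine ⟨r', j, fun e0 => ?_, hjinj, ?_, ?_, fun x => ?_, fun x => ?_⟩
  · rw [e0, mul_zero] at hpr'
    exact zero_ne_one hpr'
  · refine Subgroup.ext fun g => ⟨?_, fun hg => ?_⟩
    · rintro ⟨x, hx, rfl⟩
      obtain ⟨t, ht⟩ := (Cfsg.Agent.S5016.mem_upper x).mp hx
      rw [Cfsg.Agent.S5016.eq_U1 ht, Subgroup.mem_comap, hj, hU1]
      exact tre_mem _ _
    · obtain ⟨c, hc⟩ := exists_tre (Subgroup.mem_comap.mp hg)
      obtain ⟨t, rfl⟩ := hU.trace_zero_iff.mp (hU.coef hp hc)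
      exact ⟨Cfsg.Agent.S5016.U1 t, (Cfsg.Agent.S5016.mem_upper _).mpr ⟨t, rfl⟩, hU.inj (by rw [hj, hU1, hc])⟩
  · refine Subgroup.ext fun g => ⟨?_, fun hg => ?_⟩
    · rintro ⟨x, hx, rfl⟩
      obtain ⟨t, ht⟩ := (Cfsg.Agent.S5016.mem_lower x).mp hx
      rw [Cfsg.Agent.S5016.eq_L1 ht, Subgroup.mem_comap, hj, hL1]
      exact tre_mem _ _
    · obtain ⟨c, hc⟩ := exists_tre (Subgroup.mem_comap.mp hg)
      have hm : σ s * s ≠ 0 := mul_ne_zero (by simpa using hs0) hs0
      obtain ⟨t, ht⟩ := hU.trace_zero_iff.mp (show -c / (σ s * s) + σ (-c / (σ s * s)) = 0 by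
        rw [map_div₀, hss, map_neg, ← add_div, ← neg_add, hU.coef hr hc, neg_zero, zero_div])
      refine ⟨Cfsg.Agent.S5016.L1 t, (Cfsg.Agent.S5016.mem_lower _).mpr ⟨t, rfl⟩, hU.inj ?_⟩
      rw [hj, hL1, hc]
      congr 1
      rw [mul_neg, ← ht, neg_div, neg_neg, div_mul_cancel₀ _ hm]
  · rw [hj, hf, MonoidHom.comp_apply, planeHom_apply]
    simp [hψv, hφv, h, hrp]
  · rw [hj, hf, MonoidHom.comp_apply, planeHom_apply]
    simp [hψw, hφw, hr'0, hpr']

theorem pair {p r : V} (h : B p p = 0) (h' : B r r = 0) (hpr : B p r ≠ 0) :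
    IsRankOnePair (rootG ι h) (rootG ι h') ∧ IsPSL2PairOver L (rootG ι h) (rootG ι h') := by
  obtain ⟨r', j, -, hjinj, eA, eB, -, -⟩ := hU.exists_hom h h' hpr
  refine ⟨?_, j, ?_, ?_, eA, eB⟩
  · rw [← eA, ← eB]
    exact pair_map hjinj (RankOnePair_symm (Cfsg.Agent.S5016.result L).2.1.1)
  · rw [← eA, ← eB, ← Subgroup.map_sup, sup_comm, Cfsg.Agent.S5016.gen_top, MonoidHom.range_eq_map]
  · rw [(MonoidHom.ker_eq_bot_iff j).mpr hjinj]
    exact bot_le

theorem not_pair {p r : V} (hp : p ≠ 0) (h : B p p = 0) (h' : B r r = 0) (hpr : B p r = 0) :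
    ¬ IsRankOnePair (rootG ι h) (rootG ι h') := by
  intro hq
  obtain ⟨a, ha, ha1⟩ : ∃ a ∈ rootG ι h, a ≠ 1 := by
    by_contra hno; push Not at hno
    exact hU.root_ne_bot hp h ((Subgroup.eq_bot_iff_forall _).mpr hno)
  exact ha1 (Cfsg.Agent.Lib.RankOne.eq_one_of_normalizes hq ha
    (Cfsg.Agent.Lib.RankOne.conjBy_eq_self_of_commute fun b hb =>
      Cfsg.Agent.Lib.RankOne.commutator_eq_bot_iff.mp
        (rootG_comm hU.inj hpr (hU.symm.isRefl _ _ hpr)) a ha b hb))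

theorem kRootSet (hgen : (⨆ A ∈ unitaryRoots B ι, A) = ⊤) : IsKRootSubgroupSet L (unitaryRoots B ι) := by
  refine ⟨⟨?_, ?_, hgen, ?_, ?_⟩, ?_⟩
  · rintro _ ⟨p, hp, h, rfl⟩
    exact rootG_isMulCommutative hU.inj
  · rintro _ ⟨p, hp, h, rfl⟩
    exact hU.root_ne_bot hp h
  · rintro _ ⟨p, hp, h, rfl⟩ g
    exact hU.root_conj hp h g
  · rintro _ ⟨p, hp, h, rfl⟩ _ ⟨r, hr, h', rfl⟩
    by_cases hpr : B p r = 0
    · exact Or.inl (rootG_comm hU.inj hpr (hU.symm.isRefl _ _ hpr))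
    · exact Or.inr (Or.inl (hU.pair h h' hpr).1)
  · rintro _ ⟨p, hp, h, rfl⟩ _ ⟨r, hr, h', rfl⟩ hq
    by_cases hpr : B p r = 0
    · exact absurd hq (hU.not_pair hp h h' hpr)
    · exact (hU.pair h h' hpr).2

theorem degenerate : IsDegenerateRootSet (unitaryRoots B ι) := by
  rintro _ ⟨p, hp, h, rfl⟩ _ ⟨r, hr, h', rfl⟩ ⟨⟨z, hz, hz0, ez⟩, hcen, -, -⟩
  by_cases hpr : B p r = 0
  · exact hU.root_ne_bot hz hz0 (ez.symm.trans (rootG_comm hU.inj hpr (hU.symm.isRefl _ _ hpr)))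
  obtain ⟨r', j, hpr', hjinj, eA, eB, ep, er⟩ := hU.exists_hom h h' hpr
  obtain ⟨c, hcC, hc1⟩ : ∃ c ∈ rootG ι hz0, c ≠ 1 := by
    by_contra hno; push Not at hno
    exact hU.root_ne_bot hz hz0 ((Subgroup.eq_bot_iff_forall _).mpr hno)
  rw [← ez] at hcC
  have hle : ⁅rootG ι h, rootG ι h'⁆ ≤ j.range := by
    refine Subgroup.commutator_le.mpr fun a ha b hb => ?_
    rw [commutatorElement_def]
    have ha' : a ∈ j.range := by rw [← eA] at ha; exact Subgroup.map_le_range j _ ha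
    have hb' : b ∈ j.range := by rw [← eB] at hb; exact Subgroup.map_le_range j _ hb
    exact mul_mem (mul_mem (mul_mem ha' hb') (inv_mem ha')) (inv_mem hb')
  obtain ⟨x, rfl⟩ := hle hcC
  have hcm : ∀ y, y ∈ upperUnipotentSL2 L ⊔ lowerUnipotentSL2 L → x * y = y * x := fun y hy => hjinj (by
    rw [map_mul, map_mul]
    refine hcen _ hcC _ ?_
    rw [← eA, ← eB, ← Subgroup.map_sup]
    exact Subgroup.mem_map_of_mem j hy)
  have e1 := congrArg (fun g : SL(2, L) => (g : Matrix (Fin 2) (Fin 2) L))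
    (hcm _ (Subgroup.mem_sup_left ((Cfsg.Agent.S5016.mem_upper (Cfsg.Agent.S5016.U1 1)).mpr ⟨1, rfl⟩)))
  have e2 := congrArg (fun g : SL(2, L) => (g : Matrix (Fin 2) (Fin 2) L))
    (hcm _ (Subgroup.mem_sup_right ((Cfsg.Agent.S5016.mem_lower (Cfsg.Agent.S5016.L1 1)).mpr ⟨1, rfl⟩)))
  simp only [Matrix.SpecialLinearGroup.coe_mul] at e1 e2
  have a10 : x 1 0 = 0 := by
    have := congrFun (congrFun e1 0) 0
    simpa [Cfsg.Agent.S5016.U1, Matrix.SpecialLinearGroup.coe_mul, Matrix.mul_apply, Fin.sum_univ_two] using this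
  have a01 : x 0 1 = 0 := by
    have := congrFun (congrFun e2 0) 0
    simpa [Cfsg.Agent.S5016.L1, Matrix.SpecialLinearGroup.coe_mul, Matrix.mul_apply, Fin.sum_univ_two] using this
  have a11 : x 1 1 = x 0 0 := by
    have := congrFun (congrFun e1 0) 1
    simp [Cfsg.Agent.S5016.U1, Matrix.SpecialLinearGroup.coe_mul, Matrix.mul_apply, Fin.sum_univ_two] at this
    linear_combination -this
  rw [ez] at hcC
  obtain ⟨t, et⟩ := exists_tre (Subgroup.mem_comap.mp hcC)
  have h1 := ep x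
  have h2 := er x
  rw [et, tre_apply, a10, map_zero, zero_smul, add_zero, add_right_inj] at h1
  rw [et, tre_apply, a01, map_zero, zero_smul, add_zero, a11, add_right_inj] at h2
  have hl : θ (x 0 0) - 1 = 0 := by
    by_contra hne
    have hpz : B p z = 0 := by
      have hb := congrArg (B p) h1
      rw [map_smul, map_smul, h, smul_zero, smul_eq_mul] at hb
      refine (mul_eq_zero.mp hb).resolve_left fun h0 => ?_
      rw [h0, zero_smul] at h1
      exact hp ((smul_eq_zero.mp h1.symm).resolve_left hne)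
    have hb := congrArg (B p) h2
    rw [map_smul, map_smul, hpz, smul_zero, smul_eq_mul] at hb
    exact mul_ne_zero hne hpr' hb.symm
  refine hc1 ?_
  rw [show x = 1 from Matrix.SpecialLinearGroup.ext _ _ fun i k => ?_, map_one]
  have a00 : x 0 0 = 1 := θ.injective (by rw [map_one]; exact sub_eq_zero.mp hl)
  fin_cases i <;> fin_cases k <;> simp [a00, a01, a10, a11]

theorem exists_common {p r : V} (hp : p ≠ 0) (h : B p p = 0) (hr : r ≠ 0) :
    ∃ z : V, z ≠ 0 ∧ B z z = 0 ∧ B p z ≠ 0 ∧ B r z ≠ 0 := by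
  obtain ⟨u, hpu, hru⟩ := exists_both_ne (f := B p) (g := B r)
    (fun e0 => by obtain ⟨u, hu⟩ := hU.exists_ne hp; exact hu (by rw [e0]; rfl))
    (fun e0 => by obtain ⟨u, hu⟩ := hU.exists_ne hr; exact hu (by rw [e0]; rfl))
  obtain ⟨a, ha⟩ := hU.nontriv
  have hup : B u p ≠ 0 := fun e0 => hpu (hU.symm.isRefl _ _ e0)
  set d := a + σ a with hd
  have hσd : σ d = d := by rw [hd, map_add, hU.invol, add_comm]
  have hz : ∀ b, b + σ b = 0 → B (u + ((-(B u u) * a / d + b) / B u p) • p) (u + ((-(B u u) * a / d + b) / B u p) • p) = 0 := by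
    intro b hb
    have hd0 : d ≠ 0 := ha
    have ht : (-(B u u) * a / d + b) + σ (-(B u u) * a / d + b) = -(B u u) := by
      simp only [map_add, map_div₀, map_mul, map_neg, hU.comm_eq u u, hσd]
      rw [show -(B u u) * a / d + b + (-(B u u) * σ a / d + σ b) = -(B u u) * ((a + σ a) / d) + (b + σ b) by ring,
        hb, ← hd, div_self hd0, mul_one, add_zero]
    generalize -(B u u) * a / d + b = t at ht ⊢
    simp only [map_add, map_smul, LinearMap.map_smulₛₗ, LinearMap.add_apply, LinearMap.smul_apply, smul_eq_mul,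
      map_div₀, hU.comm_eq u p, h]
    field_simp
    linear_combination ((B p u) * (B u p)) * ht
  have hp_z : ∀ b : F, B p (u + b • p) = B p u := fun b => by rw [map_add, map_smul, h, smul_zero, add_zero]
  have hex : ∃ b, b + σ b = 0 ∧ B r (u + ((-(B u u) * a / d + b) / B u p) • p) ≠ 0 := by
    by_cases h0 : B r (u + ((-(B u u) * a / d + 0) / B u p) • p) = 0
    · refine ⟨e, hU.e_tr, fun h1 => ?_⟩
      simp only [map_add, map_smul, smul_eq_mul, add_zero] at h0 h1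
      have h2 : (e / B u p) * B r p = 0 := by linear_combination h1 - h0
      have hrp : B r p = 0 := (mul_eq_zero.mp h2).resolve_left (div_ne_zero hU.e_ne hup)
      exact hru (by simpa [hrp] using h0)
    · exact ⟨0, by rw [map_zero, add_zero], h0⟩
  obtain ⟨b, hb, hbr⟩ := hex
  exact ⟨_, fun e0 => hbr (by rw [e0, map_zero]), hz b hb, by rw [hp_z]; exact hpu, hbr⟩

theorem connected : IsConnectedFamily (FAdj (unitaryRoots B ι)) (unitaryRoots B ι) := by
  rintro _ ⟨p, hp, h, rfl⟩ _ ⟨r, hr, h', rfl⟩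
  obtain ⟨z, hz, hz0, h1, h2⟩ := hU.exists_common hp h hr
  refine (Relation.ReflTransGen.single ⟨⟨p, hp, h, rfl⟩, ⟨z, hz, hz0, rfl⟩, (hU.pair h hz0 h1).1⟩).tail
    ⟨⟨z, hz, hz0, rfl⟩, ⟨r, hr, h', rfl⟩, RankOnePair_symm (hU.pair h' hz0 h2).1⟩

theorem rootClass (hgen : (⨆ A ∈ unitaryRoots B ι, A) = ⊤) (hne : (unitaryRoots B ι).Nonempty) :
    IsRootSubgroupClass (unitaryRoots B ι) :=
  ⟨(hU.kRootSet hgen).1, hne, fun _ hA _ hB => conj_of_connected hU.connected hA hB⟩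

end UnitarySetting

end Cfsg.Agent.Lib.Transv
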